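import Cfsg.Agent.Lib.Transfer.Burnside
import Cfsg.Agent.Lib.Transfer.Residual
import Cfsg.Agent.Lib.IsolatedP.Basic
import Cfsg.Agent.Lib.Coprime.Basic
import Mathlib.Tactic.LinearCombination

/-!
# Cyclic Sylow subgroups: elementary tools

* `AbPrime p G`: every `p'`-subgroup is abelian; `CycSyl p G`: every `p`-subgroup is cyclic.
* `commute_of_fix`, `le_of_commutator_mem`: coprime action on a cyclic `p`-group.
* `mem_centralizer_of_complement`: `p'`-elements of `N(Q)` centralise `Q` in a `p`-nilpotent group.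
-/

set_option autoImplicit false

namespace Cfsg.Agent.CyclicSylow

open Subgroup

/-- Every subgroup of order prime to `p` is abelian. -/
def AbPrime (p : ℕ) (G : Type*) [Group G] : Prop :=
  ∀ H : Subgroup G, ¬ p ∣ Nat.card H → IsMulCommutative H

/-- Every `p`-subgroup is cyclic. -/
def CycSyl (p : ℕ) (G : Type*) [Group G] : Prop :=
  ∀ Q : Subgroup G, IsPGroup p Q → IsCyclic Q

variable {G : Type*} [Group G] [Finite G] {p : ℕ} [Fact p.Prime]

omit [Finite G] [Fact p.Prime] in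
theorem AbPrime.comm (h : AbPrime p G) {H : Subgroup G} (hH : ¬ p ∣ Nat.card H) {x y : G}
    (hx : x ∈ H) (hy : y ∈ H) : Commute x y :=
  congrArg Subtype.val ((h H hH).is_comm.comm (⟨x, hx⟩ : H) ⟨y, hy⟩)

omit [Finite G] [Fact p.Prime] in
theorem AbPrime.subgroup (h : AbPrime p G) (K : Subgroup G) : AbPrime p K := by
  intro H hH
  have hc : ¬ p ∣ Nat.card (H.map K.subtype) := by
    rwa [card_map_of_injective K.subtype_injective]
  refine ⟨⟨fun a b => Subtype.ext (Subtype.ext ?_)⟩⟩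
  exact h.comm hc ⟨(a : K), a.2, rfl⟩ ⟨(b : K), b.2, rfl⟩

omit [Finite G] [Fact p.Prime] in
theorem CycSyl.subgroup (h : CycSyl p G) (K : Subgroup G) : CycSyl p K := by
  intro Q hQ
  have e := Subgroup.equivMapOfInjective Q K.subtype K.subtype_injective
  haveI := h _ (hQ.of_equiv e)
  exact isCyclic_of_surjective e.symm.toMonoidHom e.symm.surjective

theorem CycSyl.of_sylow (P : Sylow p G) (hP : IsCyclic P) : CycSyl p G := by
  intro Q hQ
  obtain ⟨S, hS⟩ := hQ.exists_le_sylow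
  haveI := hP
  haveI : IsCyclic (S : Subgroup G) :=
    isCyclic_of_surjective (P.equiv S).toMonoidHom (P.equiv S).surjective
  exact isCyclic_of_injective _ (inclusion_injective hS)

omit [Finite G] [Fact p.Prime] in
theorem AbPrime.quotient (h : AbPrime p G) (R : Subgroup G) [R.Normal] [Fact p.Prime]
    (hR : ¬ p ∣ Nat.card R) : AbPrime p (G ⧸ R) := by
  intro H hH
  have hc : ¬ p ∣ Nat.card (H.comap (QuotientGroup.mk' R)) := by
    have e : Nat.card (H.comap (QuotientGroup.mk' R)) = Nat.card R * Nat.card H := by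
      rw [show Nat.card (H.comap (QuotientGroup.mk' R)) =
        Nat.card (QuotientGroup.mk ⁻¹' (H : Set (G ⧸ R))) from rfl,
        QuotientGroup.card_preimage_mk]
      rfl
    rw [e]
    exact (Fact.out : p.Prime).not_dvd_mul hR hH
  refine ⟨⟨fun a b => Subtype.ext ?_⟩⟩
  obtain ⟨x, hx⟩ := QuotientGroup.mk_surjective (a : G ⧸ R)
  obtain ⟨y, hy⟩ := QuotientGroup.mk_surjective (b : G ⧸ R)
  have hxy := h.comm hc (show x ∈ H.comap (QuotientGroup.mk' R) from
      show (QuotientGroup.mk x : G ⧸ R) ∈ H from hx ▸ a.2)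
    (show y ∈ H.comap (QuotientGroup.mk' R) from
      show (QuotientGroup.mk y : G ⧸ R) ∈ H from hy ▸ b.2)
  show (a : G ⧸ R) * b = b * a
  rw [← hx, ← hy, ← QuotientGroup.mk_mul, ← QuotientGroup.mk_mul, hxy.eq]

theorem CycSyl.quotient (h : CycSyl p G) (R : Subgroup G) [R.Normal] : CycSyl p (G ⧸ R) := by
  let P : Sylow p G := default
  haveI := h _ P.2
  refine CycSyl.of_sylow (P.mapSurjective (QuotientGroup.mk'_surjective R)) ?_
  exact isCyclic_of_surjective ((QuotientGroup.mk' R).subgroupMap (P : Subgroup G))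
    ((QuotientGroup.mk' R).subgroupMap_surjective (P : Subgroup G))

omit [Finite G] in
theorem eq_one_of_mem_not_dvd {K : Subgroup G} (hK : ¬ p ∣ Nat.card K) {x : G} (hx : x ∈ K)
    {Q : Subgroup G} (hQ : IsPGroup p Q) (hxQ : x ∈ Q) : x = 1 := by
  obtain ⟨k, hk⟩ := hQ ⟨x, hxQ⟩
  have h1 : orderOf x ∣ p ^ k := orderOf_dvd_of_pow_eq_one (congrArg Subtype.val hk)
  have h2 := orderOf_dvd_natCard K hx
  exact orderOf_eq_one_iff.1 (Nat.eq_one_of_dvd_coprimes
    (((Fact.out : p.Prime).coprime_iff_not_dvd.2 hK).pow_left k) h1 h2)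

omit [Finite G] [Fact p.Prime] in
theorem not_dvd_orderOf_of_mem {K : Subgroup G} (hK : ¬ p ∣ Nat.card K) {x : G} (hx : x ∈ K) :
    ¬ p ∣ orderOf x := fun h => hK (h.trans (orderOf_dvd_natCard K hx))

theorem eq_one_of_not_dvd_orderOf {Q : Subgroup G} (hQ : IsPGroup p Q) {x : G} (hxQ : x ∈ Q)
    (hx : ¬ p ∣ orderOf x) : x = 1 :=
  eq_one_of_mem_not_dvd (K := zpowers x) (by rwa [Nat.card_zpowers]) (mem_zpowers x) hQ hxQ

omit [Finite G] [Fact p.Prime] in
/-- A `p`-element normalising a Sylow `p`-subgroup lies in it. -/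
theorem mem_sylow_of_mem_normalizer (P : Sylow p G) {x : G}
    (hx : x ∈ normalizer ((P : Subgroup G) : Set G)) (hp : IsPGroup p (zpowers x)) : x ∈ P := by
  have hsup : IsPGroup p ↥((P : Subgroup G) ⊔ zpowers x) :=
    IsPGroup.to_sup_of_normal_left' P.2 hp (zpowers_le.2 hx)
  have := P.3 hsup le_sup_left
  exact this.le (le_sup_right (a := (P : Subgroup G)) (mem_zpowers x))

omit [Finite G] [Fact p.Prime] in
theorem isPGroup_zpowers_of_orderOf {x : G} {k : ℕ} (h : orderOf x = p ^ k) :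
    IsPGroup p (zpowers x) :=
  IsPGroup.of_card (n := k) (by rw [Nat.card_zpowers, h])

/-- An element is a product of powers of prime-to-`p` and `p`-power order. -/
theorem exists_parts (g : G) : ∃ a b : G, g = a * b ∧ a ∈ zpowers g ∧ b ∈ zpowers g ∧
    IsPGroup p (zpowers a) ∧ ¬ p ∣ orderOf b := by
  have hp : p.Prime := Fact.out
  obtain ⟨k, m, hm, hgm⟩ := Nat.exists_eq_pow_mul_and_not_dvd (orderOf_pos g).ne' p hp.ne_one
  have h := Nat.gcd_eq_gcd_ab m (p ^ k)
  rw [((hp.coprime_iff_not_dvd.2 hm).symm.pow_right k).gcd_eq_one, Nat.cast_one] at h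
  set s := Nat.gcdA m (p ^ k)
  set t := Nat.gcdB m (p ^ k)
  refine ⟨g ^ ((m : ℤ) * s), g ^ (((p ^ k : ℕ) : ℤ) * t), ?_, zpow_mem (mem_zpowers g) _,
    zpow_mem (mem_zpowers g) _, ?_, ?_⟩
  · rw [← zpow_add, ← h, zpow_one]
  · obtain ⟨l, -, hl⟩ := (Nat.dvd_prime_pow hp).1 (orderOf_dvd_of_pow_eq_one
      (x := g ^ ((m : ℤ) * s)) (n := p ^ k) (by
        rw [← zpow_natCast, ← zpow_mul, ← orderOf_dvd_iff_zpow_eq_one, hgm]
        push_cast
        exact ⟨s, by ring⟩))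
    exact isPGroup_zpowers_of_orderOf hl
  · intro hd
    refine hm (hd.trans (orderOf_dvd_of_pow_eq_one ?_))
    rw [← zpow_natCast, ← zpow_mul, ← orderOf_dvd_iff_zpow_eq_one, hgm]
    push_cast
    exact ⟨t, by ring⟩

/-- If every `p'`-element of `N(P)` centralises the abelian Sylow subgroup `P` then
`N(P) ≤ C(P)`. -/
theorem normalizer_le_centralizer_of (P : Sylow p G) (hP : IsCyclic P)
    (h : ∀ b ∈ normalizer ((P : Subgroup G) : Set G), ¬ p ∣ orderOf b →
      b ∈ centralizer ((P : Subgroup G) : Set G)) :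
    normalizer ((P : Subgroup G) : Set G) ≤ centralizer ((P : Subgroup G) : Set G) := by
  intro g hg
  obtain ⟨a, b, rfl, ha, hb, hap, hbp⟩ := exists_parts (p := p) g
  have haN := zpowers_le.2 hg ha
  have hbN := zpowers_le.2 hg hb
  refine mul_mem (mem_centralizer_iff.2 fun y hy => ?_) (h b hbN hbp)
  haveI := hP
  exact congrArg Subtype.val (IsMulCommutative.is_comm.comm (⟨y, hy⟩ : P)
    ⟨a, mem_sylow_of_mem_normalizer P haN hap⟩)

/-- In a `p`-nilpotent subgroup, `p'`-elements normalising a `p`-subgroup centralise it. -/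
theorem mem_centralizer_of_complement {H : Subgroup G} (hH : Cfsg.HasNormalPComplement p H)
    {Q : Subgroup G} (hQ : IsPGroup p Q) (hQH : Q ≤ H) {b : G} (hbH : b ∈ H)
    (hbN : b ∈ normalizer (Q : Set G)) (hb : ¬ p ∣ orderOf b) :
    b ∈ centralizer (Q : Set G) := by
  rw [mem_centralizer_iff]
  intro x hx
  have hK : ¬ p ∣ Nat.card ((Cfsg.pResidual p H).map H.subtype) := by
    rw [card_map_of_injective H.subtype_injective]
    exact Transfer.hasNormalPComplement_iff.1 hH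
  haveI := Transfer.pResidual_normal (G := H) p
  have hbR : (⟨b, hbH⟩ : H) ∈ Cfsg.pResidual p H :=
    Transfer.mem_residual_of_coprime
      (((Fact.out : p.Prime).coprime_iff_not_dvd.2 (by rwa [Subgroup.orderOf_mk])).symm)
  have h1 : x * b * x⁻¹ * b⁻¹ ∈ (Cfsg.pResidual p H).map H.subtype :=
    ⟨⟨x, hQH hx⟩ * ⟨b, hbH⟩ * ⟨x, hQH hx⟩⁻¹ * ⟨b, hbH⟩⁻¹,
      mul_mem ((inferInstance : (Cfsg.pResidual p H).Normal).conj_mem _ hbR _) (inv_mem hbR), rfl⟩
  have h2 : x * b * x⁻¹ * b⁻¹ ∈ Q := by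
    rw [show x * b * x⁻¹ * b⁻¹ = x * (b * x⁻¹ * b⁻¹) by group]
    exact mul_mem hx ((mem_normalizer_iff.1 hbN x⁻¹).1 (inv_mem hx))
  have h3 := eq_one_of_mem_not_dvd hK h1 hQ h2
  rw [show x * b * x⁻¹ * b⁻¹ = x * b * (b * x)⁻¹ by group, mul_inv_eq_one] at h3
  exact h3

/-- A `p'`-element normalising a cyclic `p`-group and centralising one of its non-identity
elements centralises it. -/
theorem commute_of_fix {Q : Subgroup G} (hc : IsCyclic Q) (hQ : IsPGroup p Q) {b z : G}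
    (hb : b ∈ normalizer (Q : Set G)) (hbp : ¬ p ∣ orderOf b) (hz : z ∈ Q) (hz1 : z ≠ 1)
    (hbz : Commute b z) : b ∈ centralizer (Q : Set G) := by
  obtain ⟨a, rfl⟩ := (Subgroup.isCyclic_iff_exists_zpowers_eq_top Q).1 hc
  obtain ⟨k, hk⟩ := IsPGroup.iff_card.1 hQ
  rw [Nat.card_zpowers] at hk
  have h := IsolatedP.commute_of_cyclic (p := p) (a := a) (n := b) (z := z) ⟨k, hk⟩
    ((mem_normalizer_iff.1 hb a).1 (mem_zpowers a)) hz hz1
    (by rw [hbz.eq, mul_inv_cancel_right]) hbp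
  rw [mem_centralizer_iff]
  intro y hy
  obtain ⟨i, rfl⟩ := mem_zpowers_iff.1 hy
  exact (h.zpow_right i).eq.symm

/-- If a `p'`-element acts nontrivially on a cyclic `p`-group, the commutators generate it. -/
theorem le_of_commutator_mem {Q : Subgroup G} (hc : IsCyclic Q) (hQ : IsPGroup p Q) {b : G}
    (hb : b ∈ normalizer (Q : Set G)) (hbp : ¬ p ∣ orderOf b)
    (hbC : b ∉ centralizer (Q : Set G)) {C : Subgroup G}
    (hmem : ∀ x ∈ Q, x * b * x⁻¹ * b⁻¹ ∈ C) : Q ≤ C := by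
  have hp : p.Prime := Fact.out
  obtain ⟨a, rfl⟩ := (Subgroup.isCyclic_iff_exists_zpowers_eq_top Q).1 hc
  obtain ⟨k, hk⟩ := IsPGroup.iff_card.1 hQ
  rw [Nat.card_zpowers] at hk
  obtain ⟨r, hr⟩ := mem_zpowers_iff.1 ((mem_normalizer_iff.1 hb a).1 (mem_zpowers a))
  have hk0 : k ≠ 0 := by
    rintro rfl
    rw [pow_zero, orderOf_eq_one_iff] at hk
    apply hbC
    rw [mem_centralizer_iff]
    intro y hy
    rw [hk, zpowers_one_eq_bot, SetLike.mem_coe, mem_bot] at hy
    rw [hy, one_mul, mul_one]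
  by_cases hd : (p : ℤ) ∣ r - 1
  · exfalso
    obtain ⟨j, rfl⟩ := Nat.exists_eq_succ_of_ne_zero hk0
    have hz1 : a ^ p ^ j ≠ 1 :=
      pow_ne_one_of_lt_orderOf (pow_ne_zero _ hp.ne_zero)
        (by rw [hk]; exact Nat.pow_lt_pow_right hp.one_lt j.lt_succ_self)
    refine hbC (commute_of_fix hc hQ hb hbp (pow_mem (mem_zpowers a) (p ^ j)) hz1 ?_)
    have e : b * a ^ p ^ j * b⁻¹ = a ^ p ^ j := by
      rw [← conj_pow, ← hr, ← zpow_natCast, ← zpow_mul, ← zpow_natCast, ← mul_inv_eq_one,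
        ← zpow_neg, ← zpow_add, ← orderOf_dvd_iff_zpow_eq_one, hk]
      push_cast
      obtain ⟨t, ht⟩ := hd
      exact ⟨t, by rw [show r = p * t + 1 by omega, pow_succ]; ring⟩
    exact mul_inv_eq_iff_eq_mul.1 e
  · have h1 : a ^ (1 - r) ∈ C := by
      have := hmem a (mem_zpowers a)
      rwa [show a * b * a⁻¹ * b⁻¹ = a * (b * a * b⁻¹)⁻¹ by group, ← hr,
        ← zpow_neg, ← zpow_one_add, show (1 : ℤ) + -r = 1 - r by ring] at this
    refine zpowers_le.2 ?_
    have hcop : IsCoprime (orderOf a : ℤ) (1 - r) := by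
      rw [hk, Nat.cast_pow]
      exact ((Nat.prime_iff_prime_int.mp hp).coprime_iff_not_dvd.mpr
        (fun hh => hd (by rw [← neg_sub, dvd_neg]; exact hh))).pow_left
    obtain ⟨u, v, huv⟩ := hcop
    rw [← zpow_one a, ← huv, zpow_add, mul_comm u, zpow_mul, zpow_natCast, pow_orderOf_eq_one,
      one_zpow, one_mul, mul_comm v, zpow_mul]
    exact zpow_mem h1 v

/-- Elements of order dividing `p` of a cyclic group are powers of any one of order `p`. -/
theorem mem_zpowers_of_pow_eq_one {Q : Subgroup G} (hc : IsCyclic Q) {z y : G}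
    (hz : orderOf z = p) (hzQ : z ∈ Q) (hy : y ^ p = 1) (hyQ : y ∈ Q) : y ∈ zpowers z := by
  obtain ⟨a, rfl⟩ := (Subgroup.isCyclic_iff_exists_zpowers_eq_top Q).1 hc
  obtain ⟨s, rfl⟩ := mem_zpowers_iff.1 hzQ
  obtain ⟨t, rfl⟩ := mem_zpowers_iff.1 hyQ
  obtain ⟨m, hm⟩ : p ∣ orderOf a := by
    rw [← hz, ← Nat.card_zpowers a, ← Nat.card_zpowers]
    exact card_dvd_of_le (zpowers_le.2 (zpow_mem (mem_zpowers a) s))
  have hp : p.Prime := Fact.out
  have hm0 : m ≠ 0 := by rintro rfl; exact (orderOf_pos a).ne' (by rw [hm, mul_zero])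
  have key : ∀ i : ℤ, (a ^ i) ^ p = 1 → (m : ℤ) ∣ i := by
    intro i hi
    rw [← zpow_natCast, ← zpow_mul, ← orderOf_dvd_iff_zpow_eq_one, hm] at hi
    push_cast at hi
    rw [mul_comm i] at hi
    exact Int.dvd_of_mul_dvd_mul_left (Int.natCast_ne_zero.2 hp.ne_zero) hi
  obtain ⟨s', rfl⟩ := key s (by
    have := pow_orderOf_eq_one (a ^ s)
    rwa [hz] at this)
  obtain ⟨t', rfl⟩ := key t hy
  have hs' : ¬ (p : ℤ) ∣ s' := by
    rintro ⟨w, rfl⟩
    have h1 : a ^ ((m : ℤ) * ((p : ℤ) * w)) = 1 := by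
      rw [← orderOf_dvd_iff_zpow_eq_one, hm]
      push_cast
      exact ⟨w, by ring⟩
    rw [h1, orderOf_one] at hz
    exact hp.ne_one hz.symm
  obtain ⟨u, v, huv⟩ := ((Nat.prime_iff_prime_int.mp hp).coprime_iff_not_dvd.mpr hs')
  refine mem_zpowers_iff.2 ⟨v * t', ?_⟩
  rw [← zpow_mul, ← mul_inv_eq_one, ← zpow_neg, ← zpow_add, ← orderOf_dvd_iff_zpow_eq_one, hm]
  push_cast
  exact ⟨-(u * t'), by linear_combination (m : ℤ) * t' * huv⟩

end Cfsg.Agent.CyclicSylow
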