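import Cfsg.Agent.Lib.CyclicSylow.Setup
import Cfsg.Agent.Lib.OddOrder.CAGroup

/-!
# The free case: no `p'`-element centralises `P`

Counting non-commuting pairs of involutions gives a contradiction.
-/

set_option autoImplicit false

namespace Cfsg.Agent.CyclicSylow.Setup

open Subgroup

variable {G : Type*} [Group G] [Finite G] {p : ℕ} [Fact p.Prime]
variable {P : Sylow p G} {z : G} {B : Subgroup G}

/-- Elements commuting with a non-identity element of `P` lie in `P`. -/
theorem mem_of_commute (h : Setup p P z B)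
    (hfree : ∀ v ∈ B, v ∈ centralizer ((P : Subgroup G) : Set G) → v = 1) {g y : G}
    (hy : y ∈ (P : Subgroup G)) (hy1 : y ≠ 1) (hc : Commute g y) : g ∈ (P : Subgroup G) := by
  obtain ⟨a, ha, v, hv, rfl⟩ := h.decomp g
    (h.tiP hy hy1 (by rw [hc.eq, mul_inv_cancel_right]; exact hy))
  have hvy : Commute v y := by
    have := ((h.pComm ha hy).inv_left).mul_left hc
    rwa [inv_mul_cancel_left] at this
  rw [hfree v hv (h.fix hv hy hy1 hvy), mul_one]
  exact ha

theorem exists_conj_mem (_h : Setup p P z B) {y : G} (hy : IsPGroup p (zpowers y)) :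
    ∃ g : G, g * y * g⁻¹ ∈ (P : Subgroup G) := by
  obtain ⟨S, hS⟩ := hy.exists_le_sylow
  obtain ⟨g, hg⟩ := MulAction.exists_smul_eq G S P
  refine ⟨g, ?_⟩
  have hy' : y ∈ (S : Subgroup G) := hS (mem_zpowers y)
  have h2 := Subgroup.smul_mem_pointwise_smul y (MulAut.conj g) (S : Subgroup G) hy'
  rw [← hg]
  exact h2

/-- In the free case the group is a CA-group. -/
theorem isCA (h : Setup p P z B)
    (hfree : ∀ v ∈ B, v ∈ centralizer ((P : Subgroup G) : Set G) → v = 1) {x : G} (hx : x ≠ 1)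
    {a b : G} (ha : Commute a x) (hb : Commute b x) : Commute a b := by
  have hp : p.Prime := Fact.out
  by_cases hd : p ∣ orderOf x
  · obtain ⟨w, hw⟩ := hd
    have hw0 : 0 < w := by
      rcases Nat.eq_zero_or_pos w with rfl | hh
      · exact absurd (by rw [hw, mul_zero]) (orderOf_pos x).ne'
      · exact hh
    have hwo : orderOf (x ^ w) = p := by
      rw [orderOf_pow, hw, Nat.gcd_eq_right (dvd_mul_left w p), Nat.mul_div_cancel _ hw0]
    obtain ⟨g, hg⟩ := h.exists_conj_mem (isPGroup_zpowers_of_orderOf (k := 1)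
      (x := x ^ w) (by rw [hwo, pow_one]))
    have hne : g * x ^ w * g⁻¹ ≠ 1 := by
      rw [Ne, conj_eq_one_iff, ← orderOf_eq_one_iff, hwo]; exact hp.ne_one
    have key : ∀ c : G, Commute c x → g * c * g⁻¹ ∈ (P : Subgroup G) := fun c hc =>
      h.mem_of_commute hfree hg hne ((Commute.conj_iff g).2 (hc.pow_right w))
    exact (Commute.conj_iff g).1 (h.pComm (key a ha) (key b hb))
  · have hC : ¬ p ∣ Nat.card (centralizer ({x} : Set G)) := by
      intro hdC
      obtain ⟨y, hy⟩ := exists_prime_orderOf_dvd_card' (G := centralizer ({x} : Set G)) p hdC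
      have hyo : orderOf (y : G) = p := by rw [Subgroup.orderOf_coe, hy]
      obtain ⟨g, hg⟩ := h.exists_conj_mem (isPGroup_zpowers_of_orderOf (k := 1)
        (x := (y : G)) (by rw [hyo, pow_one]))
      have hne : g * y * g⁻¹ ≠ 1 := by
        rw [Ne, conj_eq_one_iff, ← orderOf_eq_one_iff, hyo]; exact hp.ne_one
      have hyx : Commute x y := (mem_centralizer_singleton_iff.1 y.2).symm
      have hxP := h.mem_of_commute hfree hg hne ((Commute.conj_iff g).2 hyx)
      refine hx (conj_eq_one_iff.1 (eq_one_of_not_dvd_orderOf P.2 hxP ?_))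
      rwa [← MulAut.conj_apply, MulEquiv.orderOf_eq]
    exact h.ab.comm hC (mem_centralizer_singleton_iff.2 ha) (mem_centralizer_singleton_iff.2 hb)

theorem not_comm (h : Setup p P z B) : ¬ ∀ a b : G, a * b = b * a := by
  intro hc
  obtain ⟨b, hb, hbC⟩ := h.exists_nonfix
  exact hbC (mem_centralizer_iff.2 fun y _ => hc y b)

theorem two_dvd (h : Setup p P z B)
    (hfree : ∀ v ∈ B, v ∈ centralizer ((P : Subgroup G) : Set G) → v = 1) :
    2 ∣ Nat.card G := by
  by_contra hd
  haveI := h.simple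
  have hsol : Group.IsSolvable G := OddOrder.isSolvable_of_isCA
    (Nat.odd_iff.2 (Nat.two_dvd_ne_zero.1 hd))
    (fun x hx a ha b hb => h.isCA hfree hx (mem_centralizer_singleton_iff.1 ha)
      (mem_centralizer_singleton_iff.1 hb))
  exact h.not_comm fun a b => IsSimpleGroup.comm_iff_isSolvable.2 hsol a b

/-- Two non-commuting involutions have product of order divisible by `p`. -/
theorem dvd_orderOf_mul (h : Setup p P z B) {x y : G} (hx : x * x = 1) (hy : y * y = 1)
    (hne : ¬ Commute x y) : p ∣ orderOf (x * y) := by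
  by_contra hd
  have hxi : x⁻¹ = x := inv_eq_of_mul_eq_one_right hx
  have hyi : y⁻¹ = y := inv_eq_of_mul_eq_one_right hy
  have hxN : x ∈ normalizer ((zpowers (x * y) : Subgroup G) : Set G) := by
    have e : x * (x * y) * x⁻¹ = (x * y)⁻¹ := by
      rw [mul_inv_rev, hxi, hyi, ← mul_assoc x x y, hx, one_mul]
    have key : ∀ w ∈ zpowers (x * y), x * w * x⁻¹ ∈ zpowers (x * y) := by
      intro w hw
      obtain ⟨i, rfl⟩ := mem_zpowers_iff.1 hw
      rw [← conj_zpow, e]
      exact zpow_mem (inv_mem (mem_zpowers _)) i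
    rw [mem_normalizer_iff]
    refine fun w => ⟨key w, fun hw => ?_⟩
    have := key _ hw
    rwa [hxi, show x * (x * w * x) * x = (x * x) * w * (x * x) by group, hx, one_mul, mul_one]
      at this
  have hp := h.p_ne_two
  have hcard : ¬ p ∣ Nat.card ↥(zpowers x ⊔ zpowers (x * y)) := by
    intro hdd
    have hxx : orderOf x ∣ 2 := orderOf_dvd_of_pow_eq_one (by rw [pow_two, hx])
    have hle : zpowers x ≤ normalizer ((zpowers (x * y) : Subgroup G) : Set G) := zpowers_le.2 hxN
    obtain ⟨q, hq⟩ := exists_prime_orderOf_dvd_card' (G := ↥(zpowers x ⊔ zpowers (x * y))) p hdd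
    obtain ⟨a, ha, c, hc, hac⟩ := (Coprime.mem_sup_iff_of_le_normalizer hle).1 q.2
    have hqo : orderOf (a * c) = p := by rw [hac, Subgroup.orderOf_coe, hq]
    have ha2 : a * a = 1 := by
      obtain ⟨i, rfl⟩ := mem_zpowers_iff.1 ha
      rw [← (Commute.refl x).mul_zpow, hx, one_zpow]
    have hcn : a * c * a ∈ zpowers (x * y) := by
      have := (mem_normalizer_iff.1 (hle ha) c).1 hc
      rwa [inv_eq_of_mul_eq_one_right ha2] at this
    have hsq : (a * c) ^ 2 ∈ zpowers (x * y) := by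
      rw [pow_two, show a * c * (a * c) = (a * c * a) * c by group]
      exact mul_mem hcn hc
    have hpd : orderOf ((a * c) ^ 2) = p := by
      rw [Nat.Coprime.orderOf_pow, hqo]
      rw [hqo]
      exact (Nat.coprime_primes Fact.out Nat.prime_two).2 hp
    refine hd ?_
    rw [← Nat.card_zpowers, ← hpd, ← Nat.card_zpowers]
    exact card_dvd_of_le (zpowers_le.2 hsq)
  refine hne (h.ab.comm hcard (mem_sup_left (mem_zpowers x)) ?_)
  have := mul_mem (mem_sup_left (T := zpowers (x * y)) (mem_zpowers x))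
    (mem_sup_right (S := zpowers x) (mem_zpowers (x * y)))
  rwa [← mul_assoc, hx, one_mul] at this

/-- Two non-commuting involutions lie in a common conjugate of `N(P)`. -/
theorem exists_pair_conj (h : Setup p P z B) {x y : G} (hx : x * x = 1) (hy : y * y = 1)
    (hne : ¬ Commute x y) :
    ∃ g : G, g * x * g⁻¹ ∈ normalizer ((P : Subgroup G) : Set G) ∧
      g * y * g⁻¹ ∈ normalizer ((P : Subgroup G) : Set G) := by
  have hp : p.Prime := Fact.out
  obtain ⟨w, hw⟩ := h.dvd_orderOf_mul hx hy hne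
  have hw0 : 0 < w := by
    rcases Nat.eq_zero_or_pos w with rfl | hh
    · exact absurd (by rw [hw, mul_zero]) (orderOf_pos (x * y)).ne'
    · exact hh
  have hwo : orderOf ((x * y) ^ w) = p := by
    rw [orderOf_pow, hw, Nat.gcd_eq_right (dvd_mul_left w p), Nat.mul_div_cancel _ hw0]
  obtain ⟨g, hg⟩ := h.exists_conj_mem (isPGroup_zpowers_of_orderOf (k := 1)
    (x := (x * y) ^ w) (by rw [hwo, pow_one]))
  have hne1 : g * (x * y) ^ w * g⁻¹ ≠ 1 := by
    rw [Ne, conj_eq_one_iff, ← orderOf_eq_one_iff, hwo]; exact hp.ne_one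
  have hxi : x⁻¹ = x := inv_eq_of_mul_eq_one_right hx
  have hyi : y⁻¹ = y := inv_eq_of_mul_eq_one_right hy
  have key : ∀ c : G, c * (x * y) * c⁻¹ = (x * y)⁻¹ →
      g * c * g⁻¹ ∈ normalizer ((P : Subgroup G) : Set G) := fun c hc => by
    refine h.tiP hg hne1 ?_
    rw [show g * c * g⁻¹ * (g * (x * y) ^ w * g⁻¹) * (g * c * g⁻¹)⁻¹
        = g * (c * (x * y) ^ w * c⁻¹) * g⁻¹ by group, ← conj_pow, hc, inv_pow, ← conj_inv]
    exact inv_mem hg
  refine ⟨g, key x ?_, key y ?_⟩
  · rw [mul_inv_rev, hxi, hyi, ← mul_assoc x x y, hx, one_mul]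
  · rw [mul_inv_rev, hxi, hyi, mul_assoc, mul_assoc x y y, hy, mul_one]

/-- Some non-commuting pair of involutions exists. -/
theorem exists_noncommuting (h : Setup p P z B) (h2 : 2 ∣ Nat.card G) :
    ∃ x y : G, x * x = 1 ∧ y * y = 1 ∧ ¬ Commute x y := by
  by_contra hcon
  push Not at hcon
  haveI := h.simple
  set S : Set G := {x : G | x * x = 1} with hS
  haveI : (closure S).Normal := by
    constructor
    intro n hn g
    induction hn using closure_induction with
    | mem x hx =>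
      apply Subgroup.subset_closure
      show g * x * g⁻¹ * (g * x * g⁻¹) = 1
      have hx' : x * x = 1 := hx
      rw [show g * x * g⁻¹ * (g * x * g⁻¹) = g * (x * x) * g⁻¹ by group, hx']
      group
    | one => simp
    | mul x y _ _ ihx ihy =>
      rw [show g * (x * y) * g⁻¹ = (g * x * g⁻¹) * (g * y * g⁻¹) by group]
      exact mul_mem ihx ihy
    | inv x _ ih =>
      rw [← conj_inv]
      exact inv_mem ih
  haveI := isMulCommutative_closure (k := S) (fun x hx y hy => hcon x y hx hy)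
  rcases IsSimpleGroup.eq_bot_or_eq_top_of_normal (closure S) inferInstance with e | e
  · haveI : Fact (Nat.Prime 2) := ⟨Nat.prime_two⟩
    obtain ⟨t, ht⟩ := exists_prime_orderOf_dvd_card' (G := G) 2 h2
    have ht1 : t * t = 1 := by rw [← pow_two, ← ht, pow_orderOf_eq_one]
    have htS : t ∈ closure S := Subgroup.subset_closure ht1
    rw [e, mem_bot] at htS
    rw [htS, orderOf_one] at ht
    omega
  · refine h.not_comm fun a b => ?_
    exact congrArg Subtype.val (IsMulCommutative.is_comm.comm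
      (⟨a, e ▸ mem_top a⟩ : closure S) ⟨b, e ▸ mem_top b⟩)

/-- The involution inverting `P`. -/
theorem exists_inverting (h : Setup p P z B)
    (hfree : ∀ v ∈ B, v ∈ centralizer ((P : Subgroup G) : Set G) → v = 1) :
    ∃ u ∈ B, u * u = 1 ∧ u ≠ 1 ∧ (∀ a ∈ (P : Subgroup G), u * a * u⁻¹ = a⁻¹) ∧
      (∀ v ∈ normalizer ((P : Subgroup G) : Set G), v * v = 1 → v ≠ 1 →
        v * u ∈ (P : Subgroup G)) := by
  have hp2 := h.p_ne_two
  have inv_in_P : ∀ v ∈ (P : Subgroup G), v * v = 1 → v = 1 := by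
    intro v hv hv2
    refine eq_one_of_not_dvd_orderOf P.2 hv fun hd => hp2 ?_
    exact (Nat.prime_dvd_prime_iff_eq Fact.out Nat.prime_two).1
      (hd.trans (orderOf_dvd_of_pow_eq_one (by rw [pow_two, hv2])))
  have invert : ∀ v ∈ normalizer ((P : Subgroup G) : Set G), v * v = 1 → v ≠ 1 →
      ∀ a ∈ (P : Subgroup G), v * a * v⁻¹ = a⁻¹ := by
    intro v hvN hv2 hv1 a ha
    have hva := (mem_normalizer_iff.1 hvN a).1 ha
    by_contra hne
    have hc1 : a * (v * a * v⁻¹) ≠ 1 := fun e => hne (eq_inv_of_mul_eq_one_right e)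
    have hcm : Commute v (a * (v * a * v⁻¹)) := by
      refine mul_inv_eq_iff_eq_mul.1 ?_
      calc v * (a * (v * a * v⁻¹)) * v⁻¹ = (v * a * v⁻¹) * ((v * v) * a * (v * v)⁻¹) := by group
        _ = (v * a * v⁻¹) * a := by rw [hv2]; group
        _ = _ := (h.pComm hva ha).eq
    exact hv1 (inv_in_P v (h.mem_of_commute hfree (mul_mem ha hva) hc1 hcm) hv2)
  obtain ⟨x, y, hx, hy, hne⟩ := h.exists_noncommuting (h.two_dvd hfree)
  obtain ⟨g, hgx, -⟩ := h.exists_pair_conj hx hy hne
  have hx2 : g * x * g⁻¹ * (g * x * g⁻¹) = 1 := by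
    rw [show g * x * g⁻¹ * (g * x * g⁻¹) = g * (x * x) * g⁻¹ by group, hx]; group
  have hx1 : g * x * g⁻¹ ≠ 1 := by
    rw [Ne, conj_eq_one_iff]; rintro rfl; exact hne (Commute.one_left y)
  obtain ⟨a, ha, u, hu, hau⟩ := h.decomp _ hgx
  have hu1 : u ≠ 1 := by
    rintro rfl
    rw [mul_one] at hau
    exact hx1 (inv_in_P _ (hau ▸ ha) hx2)
  have huN := h.hBN hu
  have hu2 : u * u = 1 := by
    refine (h.decomp_unique (mul_mem ha ((mem_normalizer_iff.1 huN a).1 ha)) (one_mem _)
      (mul_mem hu hu) (one_mem B) ?_).2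
    rw [show a * (u * a * u⁻¹) * (u * u) = (a * u) * (a * u) by group, ← hau, hx2, one_mul]
  refine ⟨u, hu, hu2, hu1, invert u huN hu2 hu1, fun v hv hv2 hv1 => ?_⟩
  refine h.mem_of_commute hfree h.hzP h.z_ne_one (mul_inv_eq_iff_eq_mul.1 ?_)
  rw [show v * u * z * (v * u)⁻¹ = v * (u * z * u⁻¹) * v⁻¹ by group,
    invert u huN hu2 hu1 z h.hzP, invert v hv hv2 hv1 _ (inv_mem h.hzP), inv_inv]

end Cfsg.Agent.CyclicSylow.Setup
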