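import Cfsg.Agent.Lib.CyclicSylow.Free

/-!
# The free case: counting pairs of involutions
-/

set_option autoImplicit false

namespace Cfsg.Agent.CyclicSylow

open Subgroup

section Class

variable {G : Type*} [Group G] [Finite G]

omit [Finite G] in
theorem card_class_inter (u : G) (M : Subgroup G) (hM : centralizer ({u} : Set G) ≤ M)
    (S : Set G) (hS : ∀ g : G, g * u * g⁻¹ ∈ S ↔ g ∈ M) :
    Nat.card {v : G // (∃ g : G, g * u * g⁻¹ = v) ∧ v ∈ S} *
      Nat.card (centralizer ({u} : Set G)) = Nat.card M := by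
  classical
  rw [← Nat.card_prod]
  have k : ∀ v : {v : G // (∃ g : G, g * u * g⁻¹ = v) ∧ v ∈ S},
      {g : G // g * u * g⁻¹ = v.1} := fun v => ⟨v.2.1.choose, v.2.1.choose_spec⟩
  have kM : ∀ v, (k v).1 ∈ M := fun v => (hS _).1 (by rw [(k v).2]; exact v.2.2)
  refine Nat.card_congr (Equiv.ofBijective
    (fun w : {v : G // (∃ g : G, g * u * g⁻¹ = v) ∧ v ∈ S} × centralizer ({u} : Set G) =>
      (⟨(k w.1).1 * w.2, mul_mem (kM w.1) (hM w.2.2)⟩ : M)) ⟨?_, ?_⟩)
  · rintro ⟨v, a⟩ ⟨v', a'⟩ e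
    have e' : (k v).1 * a = (k v').1 * a' := congrArg Subtype.val e
    have ca : ∀ a : centralizer ({u} : Set G), (a : G) * u * (a : G)⁻¹ = u := fun a => by
      rw [mem_centralizer_singleton_iff.1 a.2, mul_inv_cancel_right]
    have hv : v = v' := by
      apply Subtype.ext
      rw [← (k v).2, ← (k v').2]
      calc (k v).1 * u * (k v).1⁻¹ = (k v).1 * ((a : G) * u * (a : G)⁻¹) * (k v).1⁻¹ := by rw [ca]
        _ = ((k v).1 * a) * u * ((k v).1 * a)⁻¹ := by group
        _ = ((k v').1 * a') * u * ((k v').1 * a')⁻¹ := by rw [e']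
        _ = (k v').1 * ((a' : G) * u * (a' : G)⁻¹) * (k v').1⁻¹ := by group
        _ = _ := by rw [ca]
    subst hv
    exact Prod.ext rfl (Subtype.ext (mul_left_cancel e'))
  · rintro ⟨g, hg⟩
    refine ⟨(⟨g * u * g⁻¹, ⟨g, rfl⟩, (hS g).2 hg⟩,
      ⟨(k ⟨g * u * g⁻¹, ⟨g, rfl⟩, (hS g).2 hg⟩).1⁻¹ * g, ?_⟩), Subtype.ext ?_⟩
    · rw [mem_centralizer_singleton_iff]
      set v : {v : G // (∃ g : G, g * u * g⁻¹ = v) ∧ v ∈ S} := ⟨g * u * g⁻¹, ⟨g, rfl⟩, (hS g).2 hg⟩
      have e : (k v).1 * u * (k v).1⁻¹ = g * u * g⁻¹ := (k v).2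
      calc (k v).1⁻¹ * g * u = (k v).1⁻¹ * (g * u * g⁻¹) * g := by group
        _ = (k v).1⁻¹ * ((k v).1 * u * (k v).1⁻¹) * g := by rw [e]
        _ = _ := by group
    · exact mul_inv_cancel_left _ _

omit [Finite G] in
theorem card_class (u : G) :
    Nat.card {v : G // ∃ g : G, g * u * g⁻¹ = v} * Nat.card (centralizer ({u} : Set G)) =
      Nat.card G := by
  rw [← card_top (G := G), ← card_class_inter u ⊤ le_top Set.univ (fun g => by simp)]
  congr 1
  exact Nat.card_congr (Equiv.subtypeEquivRight fun v => by simp)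

omit [Finite G] in
theorem card_commuting_pairs (u : G) :
    Nat.card {w : G × G // ((∃ g : G, g * u * g⁻¹ = w.1) ∧ (∃ g : G, g * u * g⁻¹ = w.2)) ∧
      Commute w.1 w.2} =
    Nat.card {v : G // ∃ g : G, g * u * g⁻¹ = v} *
      Nat.card {v : G // (∃ g : G, g * u * g⁻¹ = v) ∧ v ∈ (centralizer ({u} : Set G) : Set G)} := by
  classical
  rw [← Nat.card_prod]
  have k : ∀ v : {v : G // ∃ g : G, g * u * g⁻¹ = v}, {g : G // g * u * g⁻¹ = v.1} :=
    fun v => ⟨v.2.choose, v.2.choose_spec⟩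
  symm
  refine Nat.card_congr (Equiv.ofBijective
    (fun w => ⟨(w.1.1, (k w.1).1 * w.2.1 * (k w.1).1⁻¹), ⟨w.1.2, ?_⟩, ?_⟩) ⟨?_, ?_⟩)
  · obtain ⟨g, hg⟩ := w.2.2.1
    exact ⟨(k w.1).1 * g, by rw [← hg]; group⟩
  · have h1 := (Commute.conj_iff (k w.1).1).2 (mem_centralizer_singleton_iff.1 w.2.2.2 :
      Commute w.2.1 u)
    rw [(k w.1).2] at h1
    exact h1.symm
  · rintro ⟨v, a⟩ ⟨v', a'⟩ e
    have e1 : v.1 = v'.1 := congrArg (fun x => x.1.1) e
    have e2 : (k v).1 * a.1 * (k v).1⁻¹ = (k v').1 * a'.1 * (k v').1⁻¹ :=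
      congrArg (fun x => x.1.2) e
    obtain rfl : v = v' := Subtype.ext e1
    exact Prod.ext rfl (Subtype.ext (by simpa using e2))
  · rintro ⟨⟨x, y⟩, ⟨hx, hy⟩, hxy⟩
    refine ⟨(⟨x, hx⟩, ⟨(k ⟨x, hx⟩).1⁻¹ * y * (k ⟨x, hx⟩).1, ⟨?_, ?_⟩⟩), ?_⟩
    · obtain ⟨g, hg⟩ := hy
      exact ⟨(k ⟨x, hx⟩).1⁻¹ * g, by rw [← show g * u * g⁻¹ = y from hg]; group⟩
    · rw [SetLike.mem_coe, mem_centralizer_singleton_iff]
      refine (Commute.conj_iff (k ⟨x, hx⟩).1).1 ?_
      rw [(k ⟨x, hx⟩).2, show (k ⟨x, hx⟩).1 * ((k ⟨x, hx⟩).1⁻¹ * y * (k ⟨x, hx⟩).1) *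
        (k ⟨x, hx⟩).1⁻¹ = y by group]
      exact hxy.symm
    · refine Subtype.ext (Prod.ext rfl ?_)
      show _ * _ * _ = y
      group

end Class

namespace Setup

variable {G : Type*} [Group G] [Finite G] {p : ℕ} [Fact p.Prime]
variable {P : Sylow p G} {z : G} {B : Subgroup G}

theorem false_of_free (h : Setup p P z B)
    (hfree : ∀ v ∈ B, v ∈ centralizer ((P : Subgroup G) : Set G) → v = 1) : False := by
  classical
  have hp : p.Prime := Fact.out
  have hp2 := h.p_ne_two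
  haveI := h.simple
  haveI : Fact (Nat.Prime 2) := ⟨Nat.prime_two⟩
  obtain ⟨u, huB, hu2, hu1, hinv, hall⟩ := h.exists_inverting hfree
  set A := centralizer ({u} : Set G) with hA
  set N := normalizer ((P : Subgroup G) : Set G) with hN
  have huo : orderOf u = 2 := orderOf_eq_prime (by rw [pow_two, hu2]) hu1
  have hA_p : ¬ p ∣ Nat.card A := by
    intro hd
    obtain ⟨y, hy⟩ := exists_prime_orderOf_dvd_card' (G := A) p hd
    have hyo : orderOf (y : G) = p := by rw [Subgroup.orderOf_coe, hy]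
    obtain ⟨g, hg⟩ := h.exists_conj_mem (isPGroup_zpowers_of_orderOf (k := 1)
      (x := (y : G)) (by rw [hyo, pow_one]))
    have hne : g * y * g⁻¹ ≠ 1 := by
      rw [Ne, conj_eq_one_iff, ← orderOf_eq_one_iff, hyo]; exact hp.ne_one
    have huP := h.mem_of_commute hfree hg hne
      ((Commute.conj_iff g).2 (mem_centralizer_singleton_iff.1 y.2 : Commute (y : G) u).symm)
    refine hu1 (conj_eq_one_iff.1 (eq_one_of_not_dvd_orderOf P.2 huP ?_))
    rw [← MulAut.conj_apply, MulEquiv.orderOf_eq, huo]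
    exact fun e => hp2 ((Nat.prime_dvd_prime_iff_eq hp Nat.prime_two).1 e)
  have huA : u ∈ A := mem_centralizer_singleton_iff.2 rfl
  have hAc : ∀ {a b : G}, a ∈ A → b ∈ A → Commute a b := fun ha hb => h.ab.comm hA_p ha hb
  -- fusion in `A`
  have hcardConj : ∀ g : G, Nat.card (centralizer ({g * u * g⁻¹} : Set G)) = Nat.card A := by
    intro g
    refine Nat.card_congr (Equiv.subtypeEquiv (MulAut.conj g⁻¹).toEquiv fun x => ?_)
    rw [hA, mem_centralizer_singleton_iff, mem_centralizer_singleton_iff]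
    simp only [MulEquiv.toEquiv_eq_coe, EquivLike.coe_coe, MulAut.conj_apply, inv_inv]
    constructor <;> intro e
    · calc g⁻¹ * x * g * u = g⁻¹ * (x * (g * u * g⁻¹)) * g := by group
        _ = _ := by rw [e]; group
    · calc x * (g * u * g⁻¹) = g * (g⁻¹ * x * g * u) * g⁻¹ := by group
        _ = _ := by rw [e]; group
  have hfus : ∀ g : G, g * u * g⁻¹ ∈ (A : Set G) ↔ g ∈ normalizer (A : Set G) := by
    intro g
    refine ⟨fun hg => ?_, fun hg => (mem_normalizer_iff.1 hg u).1 huA⟩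
    have e : A = centralizer ({g * u * g⁻¹} : Set G) :=
      eq_of_le_of_card_ge (fun a ha => mem_centralizer_singleton_iff.2 (hAc ha hg))
        (hcardConj g).le
    rw [mem_normalizer_iff]
    intro x
    constructor
    · intro hx
      rw [e, mem_centralizer_singleton_iff]
      exact (Commute.conj_iff g).2 (mem_centralizer_singleton_iff.1 hx : Commute x u)
    · intro hx
      rw [e, mem_centralizer_singleton_iff] at hx
      exact mem_centralizer_singleton_iff.2 ((Commute.conj_iff g).1 (hx : Commute _ _))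
  have hc := card_class_inter u (normalizer (A : Set G)) le_normalizer (A : Set G) hfus
  -- `p` divides `|N(A)|`
  have hNA : p ∣ Nat.card (normalizer (A : Set G)) := by
    by_contra hd
    have hle : normalizer (A : Set G) ≤ A := fun g hg =>
      mem_centralizer_singleton_iff.2 (h.ab.comm hd hg (le_normalizer huA))
    obtain ⟨S, hS⟩ := (isPGroup_zpowers_of_orderOf (p := 2) (k := 1) (x := u)
      (by rw [huo, pow_one])).exists_le_sylow
    have hSp : ¬ p ∣ Nat.card S := by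
      obtain ⟨k, hk⟩ := IsPGroup.iff_card.1 S.2
      rw [hk]
      exact fun e => hp2 ((Nat.prime_dvd_prime_iff_eq hp Nat.prime_two).1 (hp.dvd_of_dvd_pow e))
    have hSA : (S : Subgroup G) ≤ A := fun s hs =>
      mem_centralizer_singleton_iff.2 (h.ab.comm hSp hs (hS (mem_zpowers u)))
    obtain ⟨S', K, hK, hc'⟩ := Transfer.hasNormalPComplement_of_normalizer_le_centralizer S
      fun g hg => mem_centralizer_iff.2 fun s hs =>
        hAc (hSA hs) (hle ((hfus g).1 (hSA ((mem_normalizer_iff.1 hg u).1 (hS (mem_zpowers u))))))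
    rcases IsSimpleGroup.eq_bot_or_eq_top_of_normal K hK with e | e
    · rw [e, isComplement'_bot_left] at hc'
      obtain ⟨k, hk⟩ := IsPGroup.iff_card.1 S'.2
      rw [hc', card_top] at hk
      have hpG : p ∣ Nat.card G := by
        rw [← h.hz]; exact orderOf_dvd_natCard z
      rw [hk] at hpG
      exact hp2 ((Nat.prime_dvd_prime_iff_eq hp Nat.prime_two).1 (hp.dvd_of_dvd_pow hpG))
    · rw [e, isComplement'_top_left] at hc'
      have h2 : 2 ∣ Nat.card G := h.two_dvd hfree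
      have hS1 := S'.card_eq_multiplicity
      rw [hc', card_bot] at hS1
      have := (Nat.prime_two.pow_dvd_iff_le_factorization Nat.card_pos.ne' (k := 1)).1
        (by rwa [pow_one])
      have h4 : 2 ^ 1 ≤ 2 ^ (Nat.card G).factorization 2 := Nat.pow_le_pow_right (by norm_num) this
      omega
  -- `p` divides the class size
  have hn := card_class u
  set n := Nat.card {v : G // ∃ g : G, g * u * g⁻¹ = v} with hn_def
  set c := Nat.card {v : G // (∃ g : G, g * u * g⁻¹ = v) ∧ v ∈ (A : Set G)} with hc_def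
  have hpc : p ∣ c := (hp.dvd_mul.1 (hc.symm ▸ hNA)).resolve_right hA_p
  have hpn : p ∣ n := (hp.dvd_mul.1 (hn.symm ▸ (h.hz ▸ orderOf_dvd_natCard z))).resolve_right hA_p
  -- the pairs
  set Ip : G × G → Prop := fun w =>
    (∃ g : G, g * u * g⁻¹ = w.1) ∧ (∃ g : G, g * u * g⁻¹ = w.2) with hIp
  set T := Nat.card {w : G × G // Ip w ∧ ¬ Commute w.1 w.2} with hT
  have hsum : T + n * c = n * n := by
    rw [hn_def, hc_def, hA, ← card_commuting_pairs u, ← Nat.card_prod, hT, add_comm]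
    rw [← Nat.card_sum]
    refine Nat.card_congr (Equiv.trans (Equiv.trans
      (Equiv.sumCongr (Equiv.subtypeSubtypeEquivSubtypeInter Ip (fun w => Commute w.1 w.2)).symm
        (Equiv.subtypeSubtypeEquivSubtypeInter Ip (fun w => ¬ Commute w.1 w.2)).symm)
      (Equiv.sumCompl fun w : Subtype Ip => Commute w.1.1 w.1.2))
      (Equiv.subtypeProdEquivProd (p := fun v => ∃ g : G, g * u * g⁻¹ = v)
        (q := fun v => ∃ g : G, g * u * g⁻¹ = v)))
  -- conjugates in `N` of `u`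
  have hform : ∀ a ∈ (P : Subgroup G), a * u ∈ N ∧ ∃ g : G, g * u * g⁻¹ = a * u := by
    intro a ha
    refine ⟨mul_mem (le_normalizer ha) (h.hBN huB), ?_⟩
    have hodd : Nat.Coprime (Nat.card P) 2 := by
      obtain ⟨k, hk⟩ := IsPGroup.iff_card.1 P.2
      rw [hk]
      exact ((Nat.coprime_primes hp Nat.prime_two).2 hp2).pow_left k
    obtain ⟨r, hr⟩ := (powCoprime hodd).surjective ⟨a, ha⟩
    refine ⟨r, ?_⟩
    have h1 : u * (r : G)⁻¹ * u⁻¹ = r := by rw [← conj_inv, hinv r r.2, inv_inv]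
    calc (r : G) * u * (r : G)⁻¹ = r * (u * (r : G)⁻¹ * u⁻¹) * u := by group
      _ = (r : G) ^ 2 * u := by rw [h1, pow_two]
      _ = a * u := by rw [show ((r : G)) ^ 2 = a from congrArg Subtype.val hr]
  have hncomm : ∀ a ∈ (P : Subgroup G), ∀ b ∈ (P : Subgroup G), a ≠ b →
      ¬ Commute (a * u) (b * u) := by
    intro a ha b hb hab hcm
    have e1 : ∀ a ∈ (P : Subgroup G), ∀ b ∈ (P : Subgroup G), a * u * (b * u) = a * b⁻¹ := by
      intro a _ b hb
      calc a * u * (b * u) = a * (u * b * u⁻¹) * (u * u) := by group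
        _ = _ := by rw [hinv b hb, hu2, mul_one]
    have e2 : a * b⁻¹ = b * a⁻¹ := by rw [← e1 a ha b hb, hcm.eq, e1 b hb a ha]
    refine hab (mul_inv_eq_one.1 (eq_one_of_not_dvd_orderOf P.2 (mul_mem ha (inv_mem hb))
      fun hd => hp2 ((Nat.prime_dvd_prime_iff_eq hp Nat.prime_two).1 (hd.trans
        (orderOf_dvd_of_pow_eq_one ?_)))))
    rw [pow_two]
    nth_rewrite 2 [e2]
    group
  have hinv2 : ∀ g : G, g * u * g⁻¹ * (g * u * g⁻¹) = 1 := fun g => by
    rw [show g * u * g⁻¹ * (g * u * g⁻¹) = g * (u * u) * g⁻¹ by group, hu2]; group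
  -- double count
  let W := {w : G × ↥(P : Subgroup G) × ↥(P : Subgroup G) // w.2.1 ≠ w.2.2}
  let Φ : W → {w : G × G // Ip w ∧ ¬ Commute w.1 w.2} := fun w =>
    ⟨(w.1.1 * (w.1.2.1 * u) * w.1.1⁻¹, w.1.1 * (w.1.2.2 * u) * w.1.1⁻¹), by
      refine ⟨⟨?_, ?_⟩, ?_⟩
      · obtain ⟨g, hg⟩ := (hform _ w.1.2.1.2).2
        exact ⟨w.1.1 * g, by rw [← hg]; group⟩
      · obtain ⟨g, hg⟩ := (hform _ w.1.2.2.2).2
        exact ⟨w.1.1 * g, by rw [← hg]; group⟩
      · intro hcm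
        exact hncomm _ w.1.2.1.2 _ w.1.2.2.2 (fun e => w.2 (Subtype.ext e))
          ((Commute.conj_iff w.1.1).1 hcm)⟩
  have hW : Nat.card W = Nat.card G * (Nat.card P * (Nat.card P - 1)) := by
    haveI := Fintype.ofFinite ↥(P : Subgroup G)
    have e : W ≃ G × {ab : ↥(P : Subgroup G) × ↥(P : Subgroup G) // ab.1 ≠ ab.2} :=
      ⟨fun w => (w.1.1, ⟨w.1.2, w.2⟩), fun w => ⟨(w.1, w.2.1), w.2.2⟩, fun _ => rfl, fun _ => rfl⟩
    rw [Nat.card_congr e, Nat.card_prod]
    congr 1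
    rw [Nat.card_eq_fintype_card, Nat.card_eq_fintype_card, Fintype.card_subtype,
      Nat.mul_sub, mul_one]
    have : (Finset.univ.filter fun ab : ↥(P : Subgroup G) × ↥(P : Subgroup G) => ab.1 ≠ ab.2) =
        (Finset.univ : Finset ↥(P : Subgroup G)).offDiag := by
      ext x; simp
    rw [this, Finset.offDiag_card, Finset.card_univ]
  have hdouble : Nat.card W = T * Nat.card N := by
    rw [hT, ← Nat.card_prod]
    refine (Nat.card_congr (Equiv.sigmaFiberEquiv Φ).symm).trans (Nat.card_congr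
      (Equiv.trans (Equiv.sigmaCongrRight fun t => ?_) (Equiv.sigmaEquivProd _ _)))
    have hne : ¬ Commute t.1.1 t.1.2 := t.2.2
    have hmem : ∀ v : G, v ∈ N → (∃ g : G, g * u * g⁻¹ = v) → v * u ∈ (P : Subgroup G) := by
      rintro _ hv ⟨g, rfl⟩
      exact hall _ hv (hinv2 g) (by rw [Ne, conj_eq_one_iff]; exact hu1)
    have ex : Nonempty {w : W // Φ w = t} := by
      obtain ⟨g1, hg1⟩ := t.2.1.1
      obtain ⟨g2, hg2⟩ := t.2.1.2
      obtain ⟨g, hgx, hgy⟩ := h.exists_pair_conj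
        (x := t.1.1) (y := t.1.2) (hg1 ▸ hinv2 g1) (hg2 ▸ hinv2 g2) hne
      have ha := hmem _ hgx ⟨g * g1, by rw [← hg1]; group⟩
      have hb := hmem _ hgy ⟨g * g2, by rw [← hg2]; group⟩
      have hui : u⁻¹ = u := inv_eq_of_mul_eq_one_right hu2
      refine ⟨⟨⟨(g⁻¹, ⟨_, ha⟩, ⟨_, hb⟩), fun e => hne ?_⟩, Subtype.ext (Prod.ext ?_ ?_)⟩⟩
      · have e' := congrArg Subtype.val e
        simp only [mul_left_inj, mul_right_inj] at e'
        rw [e']
      · show g⁻¹ * (g * t.1.1 * g⁻¹ * u * u) * g⁻¹⁻¹ = t.1.1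
        rw [mul_assoc _ u u, hu2]; group
      · show g⁻¹ * (g * t.1.2 * g⁻¹ * u * u) * g⁻¹⁻¹ = t.1.2
        rw [mul_assoc _ u u, hu2]; group
    obtain ⟨⟨⟨g, a, b⟩, hab⟩, hw0⟩ := ex.some
    have hw0' : (g * (↑a * u) * g⁻¹, g * (↑b * u) * g⁻¹) = t.1 := congrArg Subtype.val hw0
    have key : ∀ w : {w : W // Φ w = t},
        g⁻¹ * w.1.1.1 * (w.1.1.2.1 * u) * (g⁻¹ * w.1.1.1)⁻¹ = a * u ∧
          g⁻¹ * w.1.1.1 * (w.1.1.2.2 * u) * (g⁻¹ * w.1.1.1)⁻¹ = b * u := by
      intro w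
      have e : (w.1.1.1 * (w.1.1.2.1 * u) * w.1.1.1⁻¹, w.1.1.1 * (w.1.1.2.2 * u) * w.1.1.1⁻¹) =
          (g * (↑a * u) * g⁻¹, g * (↑b * u) * g⁻¹) :=
        (congrArg Subtype.val w.2).trans hw0'.symm
      rw [Prod.mk.injEq] at e
      constructor
      · calc _ = g⁻¹ * (w.1.1.1 * (w.1.1.2.1 * u) * w.1.1.1⁻¹) * g := by group
          _ = _ := by rw [e.1]; group
      · calc _ = g⁻¹ * (w.1.1.1 * (w.1.1.2.2 * u) * w.1.1.1⁻¹) * g := by group
          _ = _ := by rw [e.2]; group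
    have hprod : ∀ c ∈ (P : Subgroup G), ∀ d ∈ (P : Subgroup G), c * u * (d * u) = c * d⁻¹ := by
      intro c _ d hd
      calc c * u * (d * u) = c * (u * d * u⁻¹) * (u * u) := by group
        _ = _ := by rw [hinv d hd, hu2, mul_one]
    have hmemN : ∀ w : {w : W // Φ w = t}, g⁻¹ * w.1.1.1 ∈ N := by
      intro w
      refine h.tiP (mul_mem w.1.1.2.1.2 (inv_mem w.1.1.2.2.2)) ?_ ?_
      · exact fun e => w.1.2 (Subtype.ext (mul_inv_eq_one.1 e))
      · have e : g⁻¹ * w.1.1.1 * ((w.1.1.2.1 : G) * (w.1.1.2.2 : G)⁻¹) * (g⁻¹ * w.1.1.1)⁻¹ =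
            (a : G) * (b : G)⁻¹ := by
          rw [← hprod _ w.1.1.2.1.2 _ w.1.1.2.2.2, ← hprod _ a.2 _ b.2, ← conj_mul,
            (key w).1, (key w).2]
        rw [e]
        exact mul_mem a.2 (inv_mem b.2)
    refine Equiv.ofBijective (fun w => (⟨g⁻¹ * w.1.1.1, hmemN w⟩ : N)) ⟨?_, ?_⟩
    · intro w w' e
      have e1 : g⁻¹ * w.1.1.1 = g⁻¹ * w'.1.1.1 := congrArg Subtype.val e
      have ea := (key w).1.trans (key w').1.symm
      have eb := (key w).2.trans (key w').2.symm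
      rw [e1] at ea eb
      simp only [mul_left_inj, mul_right_inj] at ea eb
      exact Subtype.ext (Subtype.ext (Prod.ext (mul_left_cancel e1)
        (Prod.ext (Subtype.ext ea) (Subtype.ext eb))))
    · rintro ⟨d, hd⟩
      have mk : ∀ c ∈ (P : Subgroup G), d⁻¹ * (c * u) * d * u ∈ (P : Subgroup G) := by
        intro c hc
        obtain ⟨g', hg'⟩ := (hform c hc).2
        exact hmem _ (mul_mem (mul_mem (inv_mem hd) (hform c hc).1) hd)
          ⟨d⁻¹ * g', by rw [← hg']; group⟩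
      have hcan : ∀ c : G, g * d * (d⁻¹ * (c * u) * d * u * u) * (g * d)⁻¹ = g * (c * u) * g⁻¹ := by
        intro c
        rw [mul_assoc _ u u, hu2]; group
      refine ⟨⟨⟨(g * d, ⟨_, mk a a.2⟩, ⟨_, mk b b.2⟩), fun e => hab ?_⟩, ?_⟩, Subtype.ext ?_⟩
      · have e' := congrArg Subtype.val e
        simp only [mul_left_inj, mul_right_inj] at e'
        exact Subtype.ext e'
      · refine Subtype.ext (Eq.trans ?_ hw0')
        exact Prod.ext (hcan a) (hcan b)
      · exact inv_mul_cancel_left g d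
  rw [hW, h.card_normalizer, ← hn] at hdouble
  set q := Nat.card P with hq
  have hq0 : 0 < q := Nat.card_pos
  have hn0 : 0 < n := by
    rcases Nat.eq_zero_or_pos n with e | e
    · rw [e, zero_mul] at hn; exact absurd hn.symm Nat.card_pos.ne'
    · exact e
  -- `n |A| (q-1) = T |B|`
  have e1 : n * Nat.card A * (q - 1) = T * Nat.card B := by
    apply Nat.eq_of_mul_eq_mul_left hq0
    rw [show q * (n * Nat.card A * (q - 1)) = n * Nat.card A * (q * (q - 1)) by ring,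
      show q * (T * Nat.card B) = T * (q * Nat.card B) by ring]
    exact hdouble
  have e2 : Nat.card A * (q - 1) + c * Nat.card B = n * Nat.card B := by
    apply Nat.eq_of_mul_eq_mul_left hn0
    rw [mul_add, ← mul_assoc, e1, ← mul_assoc, ← mul_assoc, ← add_mul, hsum]
  have h3 : p ∣ Nat.card A * (q - 1) :=
    (Nat.dvd_add_left (hpc.mul_right _)).1 (e2 ▸ hpn.mul_right _)
  obtain ⟨k, hk⟩ := IsPGroup.iff_card.1 P.2
  have hk0 : k ≠ 0 := by
    rintro rfl
    refine h.z_ne_one (orderOf_eq_one_iff.1 (Nat.dvd_one.1 ?_))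
    rw [← pow_zero p, ← hk]
    exact orderOf_dvd_natCard _ h.hzP
  rcases hp.dvd_mul.1 h3 with hh | hh
  · exact hA_p hh
  · have hqd : p ∣ q := by rw [hq, hk]; exact dvd_pow_self p hk0
    have := Nat.dvd_sub hqd hh
    rw [Nat.sub_sub_self hq0] at this
    exact hp.ne_one (Nat.dvd_one.1 this)

end Setup

end Cfsg.Agent.CyclicSylow
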