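import Cfsg.Agent.Lib.CyclicSylow.NonFree
import Cfsg.Agent.S4018

/-!
# The case `B ∩ C(P) ≠ 1`
-/

set_option autoImplicit false

namespace Cfsg.Agent.CyclicSylow.Setup

open Subgroup

variable {G : Type*} [Group G] [Finite G]

theorem false_of_three {P : Sylow 3 G} {z : G} {B : Subgroup G} (h : Setup 3 P z B)
    {x : G} (hxo : orderOf x = 2) (hxB : x ∈ B)
    (hxC : x ∈ centralizer ((P : Subgroup G) : Set G))
    (htwo : ∀ v ∈ B, v ∈ centralizer ((P : Subgroup G) : Set G) → ∀ r : ℕ, r.Prime →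
      orderOf v = r → r = 2) : False := by
  classical
  haveI : Fact (Nat.Prime 2) := ⟨Nat.prime_two⟩
  haveI : Fact (Nat.Prime 3) := ⟨Nat.prime_three⟩
  haveI := h.simple
  set N := normalizer ((P : Subgroup G) : Set G) with hN
  set C := centralizer ((P : Subgroup G) : Set G) with hC
  have hx1 : x ≠ 1 := fun e => by rw [e, orderOf_one] at hxo; omega
  have hxx : x * x = 1 := by rw [← pow_two, ← hxo, pow_orderOf_eq_one]
  -- action on the subgroup of order 3
  have hact : ∀ v ∈ N, v * z * v⁻¹ = z ∨ v * z * v⁻¹ = z⁻¹ := by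
    intro v hv
    have h1 : v * z * v⁻¹ ∈ zpowers z := mem_zpowers_of_pow_eq_one (h.cyc _ P.2) h.hz h.hzP
      (by rw [conj_pow, ← h.hz, pow_orderOf_eq_one]; group) ((mem_normalizer_iff.1 hv z).1 h.hzP)
    obtain ⟨i, hi⟩ := mem_zpowers_iff.1 h1
    have hne : v * z * v⁻¹ ≠ 1 := by rw [Ne, conj_eq_one_iff]; exact h.z_ne_one
    rw [← zpow_mod_orderOf z i, h.hz] at hi
    have h3 : i % ((3 : ℕ) : ℤ) = 0 ∨ i % ((3 : ℕ) : ℤ) = 1 ∨ i % ((3 : ℕ) : ℤ) = 2 := by omega
    rcases h3 with e | e | e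
    · rw [e, zpow_zero] at hi; exact absurd hi.symm hne
    · rw [e, zpow_one] at hi; exact Or.inl hi.symm
    · refine Or.inr ?_
      rw [e] at hi
      rw [← hi]
      refine eq_inv_of_mul_eq_one_left ?_
      rw [← zpow_add_one, show (2 : ℤ) + 1 = ((3 : ℕ) : ℤ) from rfl, zpow_natCast, ← h.hz,
        pow_orderOf_eq_one]
  have hfix : ∀ v ∈ B, v * z * v⁻¹ = z → v ∈ C := fun v hv e =>
    h.fix hv h.hzP h.z_ne_one (mul_inv_eq_iff_eq_mul.1 e)
  have hinvB : ∀ v ∈ B, v ∉ C → v * z * v⁻¹ = z⁻¹ := fun v hv hvC =>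
    (hact v (h.hBN hv)).resolve_left fun e => hvC (hfix v hv e)
  have hprod : ∀ v ∈ B, v ∉ C → ∀ w ∈ B, w ∉ C → v * w ∈ C := fun v hv hvC w hw hwC =>
    hfix _ (mul_mem hv hw) (by
      rw [show v * w * z * (v * w)⁻¹ = v * (w * z * w⁻¹) * v⁻¹ by group, hinvB w hw hwC,
        ← conj_inv, hinvB v hv hvC, inv_inv])
  have hsq : ∀ v ∈ B, v * v ∈ C := fun v hv => by
    by_cases hvC : v ∈ C
    · exact mul_mem hvC hvC
    · exact hprod v hv hvC v hv hvC
  -- `B` is a `2`-group
  have hB2 : IsPGroup 2 B := by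
    refine IsPGroup.of_card (n := (Nat.card B).primeFactorsList.length)
      (Nat.eq_prime_pow_of_unique_prime_dvd Nat.card_pos.ne' ?_)
    intro r hr hrd
    haveI := Fact.mk hr
    obtain ⟨v, hv⟩ := exists_prime_orderOf_dvd_card' (G := B) r hrd
    have hvo : orderOf (v : G) = r := by rw [Subgroup.orderOf_coe, hv]
    by_contra hne
    refine hne (htwo v v.2 ?_ r hr hvo)
    by_contra hvC
    have hgen : ((v : G) * v) ^ ((r + 1) / 2) = v := by
      rw [← pow_two, ← pow_mul,
        show 2 * ((r + 1) / 2) = r + 1 by have := hr.eq_two_or_odd; omega, pow_succ, ← hvo,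
        pow_orderOf_eq_one, one_mul]
    exact hvC (hgen ▸ pow_mem (hsq v v.2) _)
  obtain ⟨Q, hBQ⟩ := hB2.exists_le_sylow
  obtain ⟨-, -, hQN, ⟨y, hyQ, hy2, hyC⟩, huniq, htrans⟩ :=
    h.prime_centralizing hxo hxB hxC Q (hBQ hxB)
  have hQB : (Q : Subgroup G) = B := by
    refine (eq_of_le_of_card_ge hBQ (Nat.le_of_dvd Nat.card_pos ?_)).symm
    have h1 := card_dvd_of_le hQN
    rw [h.card_normalizer] at h1
    refine Nat.Coprime.dvd_of_dvd_mul_left ?_ h1
    obtain ⟨k, hk⟩ := IsPGroup.iff_card.1 Q.2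
    obtain ⟨l, hl⟩ := IsPGroup.iff_card.1 P.2
    rw [hk, hl]
    exact Nat.Coprime.pow _ _ (by norm_num)
  rw [hQB] at hyQ huniq htrans
  -- `B ∩ C(P) = {1, x}`
  have hB0 : ∀ v ∈ B, v ∈ C → v = 1 ∨ v = x := by
    intro v hv hvC
    by_contra hcon
    push Not at hcon
    obtain ⟨k, hk⟩ := hB2 ⟨v, hv⟩
    have hk' : v ^ 2 ^ k = 1 := congrArg Subtype.val hk
    obtain ⟨j, -, hj⟩ := (Nat.dvd_prime_pow Nat.prime_two).1 (orderOf_dvd_of_pow_eq_one hk')
    have hj2 : 2 ≤ j := by
      rcases j with _ | _ | j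
      · exact absurd (orderOf_eq_one_iff.1 hj) hcon.1
      · rcases huniq v hv (by rw [← pow_two, show 2 = 2 ^ (0 + 1) by norm_num, ← hj,
          pow_orderOf_eq_one]) hvC with e | e
        · exact absurd e hcon.1
        · exact absurd e hcon.2
      · omega
    obtain ⟨i, rfl⟩ : ∃ i, j = i + 2 := ⟨j - 2, by omega⟩
    have hw : v ^ 2 ^ i * v ^ 2 ^ i = x := by
      rw [← pow_add, ← two_mul, ← pow_succ']
      rcases huniq (v ^ 2 ^ (i + 1)) (pow_mem hv _) (by
        rw [← pow_add, ← two_mul, ← pow_succ', ← hj, pow_orderOf_eq_one])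
        (pow_mem hvC _) with e | e
      · exfalso
        refine pow_ne_one_of_lt_orderOf (pow_ne_zero _ (by norm_num : (2 : ℕ) ≠ 0)) ?_ e
        rw [hj]; exact Nat.pow_lt_pow_right (by norm_num) (by omega)
      · exact e
    obtain ⟨g, hg, hgy⟩ := htrans y hyQ hy2 (fun e => hyC (e ▸ one_mem _))
    apply hyC
    rw [← hgy, ← hw, show g * (v ^ 2 ^ i * v ^ 2 ^ i) * g⁻¹ =
      (g * v ^ 2 ^ i * g⁻¹) * (g * v ^ 2 ^ i * g⁻¹) by group]
    exact hsq _ ((mem_normalizer_iff.1 hg _).1 (pow_mem hv _))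
  -- `|B| = 4`
  have hcardB : Nat.card B = 4 := by
    have hB : (B : Set G) = {1, x, y, y * x} := by
      ext v
      simp only [SetLike.mem_coe, Set.mem_insert_iff, Set.mem_singleton_iff]
      constructor
      · intro hv
        by_cases hvC : v ∈ C
        · rcases hB0 v hv hvC with e | e
          · exact Or.inl e
          · exact Or.inr (Or.inl e)
        · have := hB0 _ (mul_mem hyQ hv) (hprod y hyQ hyC v hv hvC)
          rcases this with e | e
          · right; right; left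
            calc v = y * (y * v) := by rw [← mul_assoc, hy2, one_mul]
              _ = y := by rw [e, mul_one]
          · right; right; right
            calc v = y * (y * v) := by rw [← mul_assoc, hy2, one_mul]
              _ = y * x := by rw [e]
      · rintro (rfl | rfl | rfl | rfl)
        exacts [one_mem _, hxB, hyQ, mul_mem hyQ hxB]
    have hy1 : y ≠ 1 := fun e => hyC (e ▸ one_mem _)
    have hyx : y ≠ x := fun e => hyC (e ▸ hxC)
    show Nat.card (B : Set G) = 4
    rw [hB, Nat.card_coe_set_eq, Set.ncard_eq_four]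
    refine ⟨1, x, y, y * x, hx1.symm, hy1.symm, fun e => hyx ?_, hyx.symm, ?_, ?_, rfl⟩
    · rw [eq_inv_of_mul_eq_one_left e.symm]; exact inv_eq_of_mul_eq_one_right hxx
    · intro e; exact hy1 (mul_eq_right.1 e.symm)
    · intro e; exact hx1 (left_eq_mul.1 e)
  have hcardN : Nat.card N = 4 * Nat.card P := by
    rw [hN, h.card_normalizer, hcardB, mul_comm]
  have hCN : C ≤ N := centralizer_le_normalizer _
  have hcardC : Nat.card C = 2 * Nat.card P := by
    have e : C = zpowers x ⊔ (P : Subgroup G) := by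
      refine le_antisymm (fun c hc => ?_) (sup_le (zpowers_le.2 hxC) h.le_centralizer)
      obtain ⟨a, ha, v, hv, rfl⟩ := h.decomp c (hCN hc)
      refine mul_mem (mem_sup_right ha) ?_
      rcases hB0 v hv ((C.mul_mem_cancel_left (h.le_centralizer ha)).1 hc) with e | e <;> rw [e]
      · exact one_mem _
      · exact mem_sup_left (mem_zpowers x)
    rw [e, Coprime.card_sup_of_le_normalizer (zpowers_le.2 (hCN hxC)) ?_, Nat.card_zpowers, hxo]
    refine (eq_bot_iff_forall _).2 fun w hw => ?_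
    exact h.inter hw.2 (zpowers_le.2 hxB hw.1)
  have hCx : centralizer ({x} : Set G) = N := by
    refine le_antisymm (h.centralizer_le hxB hx1 hxC) fun v hv => ?_
    obtain ⟨a, ha, w, hw, rfl⟩ := h.decomp v hv
    refine mem_centralizer_singleton_iff.2 (Commute.mul_left ?_ (h.bComm hw hxB))
    exact mem_centralizer_iff.1 hxC a ha
  -- involutions
  have hinvol : ∀ t : G, orderOf t = 2 → ∃ g : G, centralizer ({t} : Set G) =
      (N.map (MulAut.conj g).toMonoidHom) := by
    intro t ht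
    obtain ⟨S, hS⟩ := (isPGroup_zpowers_of_orderOf (p := 2) (k := 1) (x := t)
      (by rw [ht, pow_one])).exists_le_sylow
    obtain ⟨g, hg⟩ := MulAction.exists_smul_eq G S Q
    have htQ : g * t * g⁻¹ ∈ B := by
      rw [← hQB, ← hg]
      exact Subgroup.smul_mem_pointwise_smul t (MulAut.conj g) (S : Subgroup G) (hS (mem_zpowers t))
    have htt : t * t = 1 := by rw [← pow_two, ← ht, pow_orderOf_eq_one]
    obtain ⟨k, -, hk⟩ := htrans _ htQ
      (by rw [show g * t * g⁻¹ * (g * t * g⁻¹) = g * (t * t) * g⁻¹ by group, htt]; group)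
      (by rw [Ne, conj_eq_one_iff]; rintro rfl; rw [orderOf_one] at ht; omega)
    have htx : t = g⁻¹ * k * x * (g⁻¹ * k)⁻¹ := by
      rw [show g⁻¹ * k * x * (g⁻¹ * k)⁻¹ = g⁻¹ * (k * x * k⁻¹) * g by group, hk]; group
    refine ⟨g⁻¹ * k, ?_⟩
    subst htx
    ext v
    rw [mem_map_equiv, MulAut.conj_symm_apply, ← hCx, mem_centralizer_singleton_iff,
      mem_centralizer_singleton_iff]
    constructor
    · intro e
      have := (Commute.conj_iff (g⁻¹ * k)⁻¹).2 (e : Commute v _)
      rw [inv_inv] at this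
      rwa [show (g⁻¹ * k)⁻¹ * (g⁻¹ * k * x * (g⁻¹ * k)⁻¹) * (g⁻¹ * k) = x by group] at this
    · intro e
      have := (Commute.conj_iff (g⁻¹ * k)).2 (e : Commute _ x)
      rwa [show g⁻¹ * k * ((g⁻¹ * k)⁻¹ * v * (g⁻¹ * k)) * (g⁻¹ * k)⁻¹ = v by group] at this
  have hcardconj : ∀ g : G, Nat.card (N.map (MulAut.conj g).toMonoidHom) = 4 * Nat.card P := fun g =>
    (card_map_of_injective (MulAut.conj g).injective).trans hcardN
  haveI := h.cyc _ P.2
  refine S4018.result P inferInstance hcardN hcardC ?_ ?_ h.simple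
  · -- TI
    intro g hg c hc hgc
    by_contra hc1
    apply hg
    have hgN : g ∈ N := by
      have forms : ∀ d ∈ C, ∃ a ∈ (P : Subgroup G), d * d = a * a ∧ (a = 1 → d = 1 ∨ d = x) := by
        intro d hd
        obtain ⟨a, ha, v, hv, rfl⟩ := h.decomp d (hCN hd)
        have hv' := hB0 v hv ((C.mul_mem_cancel_left (h.le_centralizer ha)).1 hd)
        refine ⟨a, ha, ?_, fun e => by rw [e, one_mul]; exact hv'⟩
        rcases hv' with e | e <;> rw [e]
        · rw [mul_one]
        · rw [show a * x * (a * x) = a * (x * a) * x by group,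
            ← (mem_centralizer_iff.1 hxC a ha), show a * (a * x) * x = a * a * (x * x) by group,
            hxx, mul_one]
      obtain ⟨a, ha, hcc, hca⟩ := forms c hc
      obtain ⟨a', ha', hcc', hca'⟩ := forms _ hgc
      have hodd : ∀ w ∈ (P : Subgroup G), w * w = 1 → w = 1 := fun w hw hw2 => by
        refine eq_one_of_not_dvd_orderOf P.2 hw fun hd => ?_
        have := hd.trans (orderOf_dvd_of_pow_eq_one (n := 2) (by rw [pow_two, hw2]))
        omega
      by_cases ha1 : a = 1
      · obtain rfl := (hca ha1).resolve_left hc1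
        have : g * c * g⁻¹ = c := by
          have e2 : g * c * g⁻¹ * (g * c * g⁻¹) = 1 := by
            rw [show g * c * g⁻¹ * (g * c * g⁻¹) = g * (c * c) * g⁻¹ by group, hxx]; group
          exact (hca' (hodd a' ha' (hcc'.symm.trans e2))).resolve_left
            (by rw [conj_eq_one_iff]; exact hc1)
        show g ∈ N
        rw [← hCx]
        exact mem_centralizer_singleton_iff.2 (mul_inv_eq_iff_eq_mul.1 this)
      · refine h.tiP (x := a * a) (mul_mem ha ha) (fun e => ha1 (hodd a ha e)) ?_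
        rw [← hcc, show g * (c * c) * g⁻¹ = g * c * g⁻¹ * (g * c * g⁻¹) by group, hcc']
        exact mul_mem ha' ha'
    have hconj : ∀ d ∈ N, ∀ e ∈ C, d * e * d⁻¹ ∈ C := fun d hd e he => by
      rw [hC, mem_centralizer_iff]
      intro w hw
      have := mem_centralizer_iff.1 he _ ((mem_normalizer_iff.1 (inv_mem hd) w).1 hw)
      rw [inv_inv] at this
      calc w * (d * e * d⁻¹) = d * ((d⁻¹ * w * d) * e) * d⁻¹ := by group
        _ = d * (e * (d⁻¹ * w * d)) * d⁻¹ := by rw [this]
        _ = _ := by group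
    rw [mem_normalizer_iff]
    refine fun e => ⟨hconj g hgN e, fun he => ?_⟩
    have := hconj _ (inv_mem hgN) _ he
    rwa [show g⁻¹ * (g * e * g⁻¹) * g⁻¹⁻¹ = e by group] at this
  · -- even proper subgroups
    intro H hH h2
    obtain ⟨t, ht⟩ := exists_prime_orderOf_dvd_card' (G := H) 2 h2
    have hto : orderOf (t : G) = 2 := by rw [Subgroup.orderOf_coe, ht]
    obtain ⟨g, hg⟩ := hinvol t hto
    have habel : ∀ K : Subgroup G, ¬ 3 ∣ Nat.card K → (t : G) ∈ K →
        Nat.card K ∣ 4 * Nat.card P := by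
      intro K hK htK
      rw [← hcardconj g, ← hg]
      exact card_dvd_of_le fun w hw => mem_centralizer_singleton_iff.2 (h.ab.comm hK hw htK)
    obtain hn | ⟨S, hSH, hS, hN', hall⟩ := h.dich H hH
    · set R := Cfsg.pResidual 3 H with hR
      have hR3 : ¬ 3 ∣ Nat.card R := Transfer.hasNormalPComplement_iff.1 hn
      have htR : t ∈ R := Transfer.mem_residual_of_coprime (by rw [ht]; norm_num)
      have hRmap : ¬ 3 ∣ Nat.card (R.map H.subtype) := by
        rwa [card_map_of_injective H.subtype_injective]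
      have h4 := habel _ hRmap ⟨t, htR, rfl⟩
      rw [card_map_of_injective H.subtype_injective] at h4
      obtain ⟨l, hl⟩ := IsPGroup.iff_card.1 P.2
      have hR4 : Nat.card R ∣ 4 := Nat.Coprime.dvd_of_dvd_mul_right
        (by rw [hl]; exact (Nat.prime_three.coprime_iff_not_dvd.2 hR3).symm.pow_right l) h4
      let PH : Sylow 3 H := default
      have hc := Transfer.isComplement'_pResidual PH hR3
      rw [← hc.card_mul_card]
      refine mul_dvd_mul hR4 ?_
      obtain ⟨S', hS'⟩ := (PH.2.map H.subtype).exists_le_sylow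
      rw [← card_map_of_injective (f := H.subtype) H.subtype_injective]
      refine (card_dvd_of_le hS').trans (dvd_of_eq ?_)
      exact (Nat.card_congr (S'.equiv P).toEquiv)
    · by_cases hS1 : S = ⊥
      · refine habel H (fun hd => ?_) t.2
        obtain ⟨w, hw⟩ := exists_prime_orderOf_dvd_card' (G := H) 3 hd
        have hwo : orderOf (w : G) = 3 := by rw [Subgroup.orderOf_coe, hw]
        have := hall w w.2 (isPGroup_zpowers_of_orderOf (k := 1) (by rw [hwo, pow_one]))
        rw [hS1, mem_bot] at this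
        rw [this, orderOf_one] at hwo
        omega
      · obtain ⟨S', hS'⟩ := hS.exists_le_sylow
        obtain ⟨k, hk⟩ := MulAction.exists_smul_eq G S' P
        obtain ⟨s, hs, hs1⟩ := (S.ne_bot_iff_exists_ne_one.1 hS1 |>.elim fun a ha =>
          ⟨(a : G), a.2, fun e => ha (Subtype.ext e)⟩ : ∃ s ∈ S, s ≠ (1 : G))
        have hmemP : ∀ w ∈ S, k * w * k⁻¹ ∈ (P : Subgroup G) := fun w hw => by
          rw [← hk]
          exact Subgroup.smul_mem_pointwise_smul w (MulAut.conj k) (S' : Subgroup G) (hS' hw)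
        have hle : H.map (MulAut.conj k).toMonoidHom ≤ N := by
          rintro _ ⟨w, hw, rfl⟩
          refine h.tiP (x := k * s * k⁻¹) (hmemP s hs) (by rw [Ne, conj_eq_one_iff]; exact hs1) ?_
          show k * w * k⁻¹ * (k * s * k⁻¹) * (k * w * k⁻¹)⁻¹ ∈ _
          rw [show k * w * k⁻¹ * (k * s * k⁻¹) * (k * w * k⁻¹)⁻¹ = k * (w * s * w⁻¹) * k⁻¹ by group]
          exact hmemP _ ((mem_normalizer_iff.1 (hN' hw) s).1 hs)
        rw [← hcardN, ← card_map_of_injective (f := (MulAut.conj k).toMonoidHom)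
          (K := H) (MulAut.conj k).injective]
        exact card_dvd_of_le hle

theorem false_of_nonfree {p : ℕ} [Fact p.Prime] {P : Sylow p G} {z : G} {B : Subgroup G}
    (h : Setup p P z B) {x : G} (hxB : x ∈ B)
    (hxC : x ∈ centralizer ((P : Subgroup G) : Set G)) (hx1 : x ≠ 1) : False := by
  have key : ∀ v ∈ B, v ∈ centralizer ((P : Subgroup G) : Set G) → ∀ r : ℕ, r.Prime →
      orderOf v = r → p = 3 ∧ r = 2 := by
    intro v hv hvC r hr hvo
    haveI := Fact.mk hr
    obtain ⟨Q, hQ⟩ := (isPGroup_zpowers_of_orderOf (p := r) (k := 1) (x := v)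
      (by rw [hvo, pow_one])).exists_le_sylow
    obtain ⟨h1, h2, -⟩ := h.prime_centralizing hvo hv hvC Q (hQ (mem_zpowers v))
    exact ⟨h1, h2⟩
  have ho : orderOf x ≠ 1 := fun e => hx1 (orderOf_eq_one_iff.1 e)
  obtain ⟨r, hr, w, hw⟩ := Nat.exists_prime_and_dvd ho
  have hw0 : 0 < w := by
    rcases Nat.eq_zero_or_pos w with rfl | hh
    · exact absurd (by rw [hw, mul_zero]) (orderOf_pos x).ne'
    · exact hh
  have hxo : orderOf (x ^ w) = r := by
    rw [orderOf_pow, hw, Nat.gcd_eq_right (dvd_mul_left w r), Nat.mul_div_cancel _ hw0]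
  obtain ⟨rfl, rfl⟩ := key _ (pow_mem hxB w) (pow_mem hxC w) r hr hxo
  exact h.false_of_three hxo (pow_mem hxB w) (pow_mem hxC w)
    fun v hv hvC s hs hvo => (key v hv hvC s hs hvo).2

end Cfsg.Agent.CyclicSylow.Setup
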