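import Cfsg.Agent.Lib.CyclicSylow.FreeCount
import Cfsg.Agent.Lib.CyclicSylow.NonFreeFinal
import Mathlib.GroupTheory.SchurZassenhaus

/-!
# Cyclic Sylow subgroup and abelian `p'`-subgroups: normal `p`-complement or normal Sylow subgroup
-/

set_option autoImplicit false

namespace Cfsg.Agent.CyclicSylow

open Subgroup

universe u

variable {G : Type u} [Group G] [Finite G] {p : ℕ} [Fact p.Prime]

/-- Normal `p`-complement, or all Sylow `p`-subgroups are normal. -/
def Good (p : ℕ) (G : Type u) [Group G] : Prop :=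
  Cfsg.HasNormalPComplement p G ∨ ∀ P : Sylow p G, (P : Subgroup G).Normal

omit [Finite G] [Fact p.Prime] in
theorem Good.dich {H : Subgroup G} (hg : Good p H) : Dich p H := by
  refine hg.imp id fun hn => ?_
  let S : Sylow p H := default
  haveI := hn S
  refine ⟨(S : Subgroup H).map H.subtype, map_subtype_le _, S.2.map _, ?_, ?_⟩
  · intro g hg'
    rw [mem_normalizer_iff]
    intro x
    constructor
    · rintro ⟨s, hs, rfl⟩
      exact ⟨⟨g, hg'⟩ * s * ⟨g, hg'⟩⁻¹, (hn S).conj_mem s hs _, rfl⟩
    · rintro ⟨s, hs, e⟩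
      refine ⟨⟨g, hg'⟩⁻¹ * s * ⟨g, hg'⟩⁻¹⁻¹, (hn S).conj_mem s hs _, ?_⟩
      have e' : (s : G) = g * x * g⁻¹ := e
      show g⁻¹ * (s : G) * g⁻¹⁻¹ = x
      rw [e']; group
  · intro x hx hp
    refine ⟨⟨x, hx⟩, ?_, rfl⟩
    have h2 : IsPGroup p (zpowers (⟨x, hx⟩ : H)) := by
      intro w
      obtain ⟨i, hi⟩ := mem_zpowers_iff.1 w.2
      obtain ⟨k, hk⟩ := hp ⟨x, mem_zpowers x⟩
      refine ⟨k, Subtype.ext ?_⟩
      rw [SubgroupClass.coe_pow, ← hi, ← zpow_natCast, ← zpow_mul, mul_comm, zpow_mul,
        zpow_natCast, show (⟨x, hx⟩ : H) ^ p ^ k = 1 from Subtype.ext (congrArg Subtype.val hk :),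
        one_zpow]
      rfl
    exact mem_sylow_of_mem_normalizer S (by rw [normalizer_eq_top (S : Subgroup H)]; trivial) h2

/-- A normal `p`-complement lifts through a kernel of order prime to `p`. -/
theorem npc_of_quotient (R : Subgroup G) [R.Normal] (hR : ¬ p ∣ Nat.card R)
    (h : Cfsg.HasNormalPComplement p (G ⧸ R)) : Cfsg.HasNormalPComplement p G := by
  let P : Sylow p G := default
  rw [Transfer.hasNormalPComplement_iff_inf_eq_bot P, eq_bot_iff_forall]
  rintro x ⟨hxP, hxR⟩
  have hx' : QuotientGroup.mk' R x ∈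
      (P.mapSurjective (QuotientGroup.mk'_surjective R) : Subgroup (G ⧸ R)) ⊓
        Cfsg.pResidual p (G ⧸ R) :=
    ⟨⟨x, hxP, rfl⟩, Transfer.map_residual_le _ p ⟨x, hxR, rfl⟩⟩
  rw [(Transfer.hasNormalPComplement_iff_inf_eq_bot _).1 h, mem_bot] at hx'
  exact eq_one_of_mem_not_dvd hR ((QuotientGroup.eq_one_iff x).1 hx') P.2 hxP

variable {P : Sylow p G} {z : G}

/-- No normal subgroup of order prime to `p`. -/
theorem eq_bot_of_not_dvd (IH : ∀ (R : Subgroup G) [R.Normal], R ≠ ⊥ → ¬ p ∣ Nat.card R →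
      Good p (G ⧸ R))
    (hab : AbPrime p G) (hcyc : CycSyl p G) (hnpc : ¬ Cfsg.HasNormalPComplement p G)
    (hPn : ¬ (P : Subgroup G).Normal) {b : G}
    (hbN : b ∈ normalizer ((P : Subgroup G) : Set G)) (hbp : ¬ p ∣ orderOf b)
    (hbC : b ∉ centralizer ((P : Subgroup G) : Set G))
    (R : Subgroup G) [R.Normal] (hR : ¬ p ∣ Nat.card R) : R = ⊥ := by
  have hp : p.Prime := Fact.out
  by_contra hne
  obtain hn | hn := IH R hne hR
  · exact hnpc (npc_of_quotient R hR hn)
  haveI := hn (P.mapSurjective (QuotientGroup.mk'_surjective R))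
  have hRN : ∀ H : Subgroup G, H ≤ normalizer (R : Set G) := fun H => by
    rw [normalizer_eq_top R]; exact le_top
  -- `b` centralises `R`
  have hbR : b ∈ centralizer (R : Set G) := by
    have hsup : ¬ p ∣ Nat.card ↥(zpowers b ⊔ R) := by
      intro hd
      have e : Nat.card ↥(zpowers b ⊔ R) ∣ Nat.card (zpowers b) * Nat.card R := by
        have h1 := relIndex_sup_right (H := zpowers b) R
        rw [← card_mul_index (R.subgroupOf (zpowers b ⊔ R)),
          Nat.card_congr (subgroupOfEquivOfLe le_sup_right).toEquiv, mul_comm (Nat.card (zpowers b))]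
        refine mul_dvd_mul_left _ ?_
        have h2 : R.relIndex (zpowers b ⊔ R) = R.relIndex (zpowers b) := h1
        show R.relIndex (zpowers b ⊔ R) ∣ _
        rw [h2]
        exact Subgroup.relIndex_dvd_card R (zpowers b)
      rcases hp.dvd_mul.1 (hd.trans e) with hh | hh
      · rw [Nat.card_zpowers] at hh; exact hbp hh
      · exact hR hh
    rw [mem_centralizer_iff]
    exact fun y hy => (hab.comm hsup (mem_sup_right hy) (mem_sup_left (mem_zpowers b))).eq
  haveI : (centralizer (R : Set G)).Normal := normal_centralizer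
  have hPR : (P : Subgroup G) ≤ centralizer (R : Set G) := by
    refine le_of_commutator_mem (hcyc _ P.2) P.2 hbN hbp hbC fun x _ => ?_
    exact mul_mem ((inferInstance : (centralizer (R : Set G)).Normal).conj_mem b hbR x)
      (inv_mem hbR)
  apply hPn
  constructor
  intro x hx g
  have h1 : QuotientGroup.mk' R (g * x * g⁻¹) ∈
      (P.mapSurjective (QuotientGroup.mk'_surjective R) : Subgroup (G ⧸ R)) := by
    rw [map_mul, map_mul, map_inv]
    exact (inferInstance : Subgroup.Normal (P.mapSurjective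
      (QuotientGroup.mk'_surjective R) : Subgroup (G ⧸ R))).conj_mem _ ⟨x, hx, rfl⟩ _
  obtain ⟨y, hy, e⟩ := h1
  have hr : y⁻¹ * (g * x * g⁻¹) ∈ R := QuotientGroup.eq.1 e
  refine mem_sylow_of_mem_normalizer P ?_ ?_
  · rw [show g * x * g⁻¹ = y * (y⁻¹ * (g * x * g⁻¹)) by group]
    refine mul_mem (le_normalizer hy) ?_
    rw [mem_normalizer_iff]
    intro w
    constructor
    · intro hw
      rw [(mem_centralizer_iff.1 (hPR hw) _ hr), mul_inv_cancel_right]
      exact hw
    · intro hw
      have h2 := mem_centralizer_iff.1 (hPR hw) _ (inv_mem hr)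
      set r := y⁻¹ * (g * x * g⁻¹)
      have : r⁻¹ * (r * w * r⁻¹) * r = r * w * r⁻¹ := by rw [h2, inv_mul_cancel_right]
      rw [show r⁻¹ * (r * w * r⁻¹) * r = w by group] at this
      rw [this]; exact hw
  · obtain ⟨k, hk⟩ := P.2 ⟨x, hx⟩
    obtain ⟨j, -, hj⟩ := (Nat.dvd_prime_pow hp).1
      (orderOf_dvd_of_pow_eq_one (congrArg Subtype.val hk : x ^ p ^ k = 1))
    refine isPGroup_zpowers_of_orderOf (k := j) ?_
    rw [← MulAut.conj_apply, MulEquiv.orderOf_eq, hj]

theorem good_aux (n : ℕ) : ∀ (G : Type u) [Group G] [Finite G], Nat.card G = n →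
    CycSyl p G → AbPrime p G → Good p G := by
  induction n using Nat.strong_induction_on with
  | _ n ih =>
  intro G _ _ hn hcyc hab
  classical
  have hp : p.Prime := Fact.out
  by_contra hgood
  unfold Good at hgood
  push Not at hgood
  obtain ⟨hnpc, P, hPn⟩ := hgood
  have IHsub : ∀ H : Subgroup G, H ≠ ⊤ → Dich p H := by
    intro H hH
    refine Good.dich (ih (Nat.card H) ?_ H rfl (hcyc.subgroup H) (hab.subgroup H))
    rw [← hn]
    exact lt_of_le_of_ne (card_le_card_group H) fun e => hH (card_eq_iff_eq_top H |>.1 e)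
  have IHquot : ∀ (R : Subgroup G) [R.Normal], R ≠ ⊥ → ¬ p ∣ Nat.card R → Good p (G ⧸ R) := by
    intro R _ hR hRp
    refine ih (Nat.card (G ⧸ R)) ?_ _ rfl (hcyc.quotient R) (hab.quotient R hRp)
    rw [← hn, ← card_mul_index R, index_eq_card]
    exact lt_mul_of_one_lt_left Nat.card_pos (one_lt_card_iff_ne_bot R |>.2 hR)
  haveI := hcyc _ P.2
  have hPC : (P : Subgroup G) ≤ centralizer ((P : Subgroup G) : Set G) := fun x hx =>
    mem_centralizer_iff.2 fun y hy =>
      congrArg Subtype.val (IsMulCommutative.is_comm.comm (⟨y, hy⟩ : P) ⟨x, hx⟩)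
  obtain ⟨b, hbN, hbp, hbC⟩ : ∃ b ∈ normalizer ((P : Subgroup G) : Set G),
      ¬ p ∣ orderOf b ∧ b ∉ centralizer ((P : Subgroup G) : Set G) := by
    by_contra hcon
    push Not at hcon
    exact hnpc (Transfer.hasNormalPComplement_of_normalizer_le_centralizer P
      (normalizer_le_centralizer_of P inferInstance hcon))
  have hPbot : (P : Subgroup G) ≠ ⊥ := fun e => hPn (e ▸ inferInstance)
  obtain ⟨z', hz'⟩ := exists_prime_orderOf_dvd_card' (G := (P : Subgroup G)) p (by
    obtain ⟨k, hk⟩ := IsPGroup.iff_card.1 P.2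
    rw [hk]
    refine dvd_pow_self p fun e => hPbot (eq_bot_of_card_eq _ ?_)
    rw [hk, e, pow_zero])
  set z : G := (z' : G) with hzdef
  have hz : orderOf z = p := by rw [hzdef, Subgroup.orderOf_coe, hz']
  have hzP : z ∈ (P : Subgroup G) := z'.2
  have hz1 : z ≠ 1 := fun e => hp.ne_one (by rw [← hz, e, orderOf_one])
  have hR0 : ∀ (R : Subgroup G) [R.Normal], ¬ p ∣ Nat.card R → R = ⊥ := fun R _ hR =>
    eq_bot_of_not_dvd IHquot hab hcyc hnpc hPn hbN hbp hbC R hR
  -- elements of order `p` of `P`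
  have hpow : ∀ y ∈ (P : Subgroup G), y ^ p = 1 → y ∈ zpowers z := fun y hy hyp =>
    mem_zpowers_of_pow_eq_one (hcyc _ P.2) hz hzP hyp hy
  -- no normal `p`-subgroup
  have hS0 : ∀ S : Subgroup G, S.Normal → IsPGroup p S → S = ⊥ := by
    intro S hSn hS
    by_contra hne
    haveI := hSn
    have hSP : S ≤ P := by
      intro s hs
      refine mem_sylow_of_mem_normalizer P ?_ (hS.to_le (zpowers_le.2 hs))
      have hsup : IsPGroup p ↥((P : Subgroup G) ⊔ S) :=
        IsPGroup.to_sup_of_normal_right P.2 hS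
      have e := P.3 hsup le_sup_left
      exact le_normalizer (e.le (mem_sup_right hs))
    have hzS : z ∈ S := by
      obtain ⟨k, hk⟩ := IsPGroup.iff_card.1 hS
      obtain ⟨y, hy⟩ := exists_prime_orderOf_dvd_card' (G := S) p (by
        rw [hk]
        refine dvd_pow_self p fun e => hne (eq_bot_of_card_eq _ ?_)
        rw [hk, e, pow_zero])
      have hyo : orderOf (y : G) = p := by rw [Subgroup.orderOf_coe, hy]
      exact zpowers_le.2 y.2 (mem_zpowers_of_pow_eq_one (hcyc _ P.2) hyo (hSP y.2)
        (by rw [← hz, pow_orderOf_eq_one]) hzP)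
    have hconj : ∀ g : G, g * z * g⁻¹ ∈ zpowers z := fun g =>
      hpow _ (hSP (hSn.conj_mem z hzS g)) (by rw [conj_pow, ← hz, pow_orderOf_eq_one]; group)
    set C := centralizer ({z} : Set G) with hC
    haveI hCn : C.Normal := by
      constructor
      intro c hc g
      rw [hC, mem_centralizer_singleton_iff] at hc ⊢
      obtain ⟨i, hi⟩ := mem_zpowers_iff.1 (hconj g⁻¹)
      rw [inv_inv] at hi
      have hcz : Commute c (z ^ i) := Commute.zpow_right (show Commute c z from hc) i
      rw [hi] at hcz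
      have := (Commute.conj_iff g).2 hcz
      rwa [show g * (g⁻¹ * z * g) * g⁻¹ = z by group] at this
    have hPle : (P : Subgroup G) ≤ C := fun x hx =>
      mem_centralizer_singleton_iff.2 (mem_centralizer_iff.1 (hPC hx) z hzP).symm
    by_cases hCtop : C = ⊤
    · exact hbC (commute_of_fix (hcyc _ P.2) P.2 hbN hbp hzP hz1
        (mem_centralizer_singleton_iff.1 (show b ∈ C from hCtop ▸ mem_top b)))
    obtain hn' | ⟨T, hTC, hT, hN, hall⟩ := IHsub C hCtop
    · haveI := Transfer.pResidual_characteristic (G := C) p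
      haveI : ((Cfsg.pResidual p C).map C.subtype).Normal := ConjAct.normal_of_characteristic_of_normal
      have hK := hR0 ((Cfsg.pResidual p C).map C.subtype) (by
        rw [card_map_of_injective C.subtype_injective]
        exact Transfer.hasNormalPComplement_iff.1 hn')
      rw [map_eq_bot_iff_of_injective _ C.subtype_injective] at hK
      have hq := Transfer.isPGroup_quotient_pResidual (G := C) p
      have hCp : IsPGroup p C := by
        intro c
        obtain ⟨k, hk⟩ := hq (QuotientGroup.mk c)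
        refine ⟨k, ?_⟩
        rw [← QuotientGroup.mk_pow, QuotientGroup.eq_one_iff, hK, mem_bot] at hk
        exact hk
      exact hPn (P.3 hCp hPle ▸ hCn)
    · have hPT : (P : Subgroup G) ≤ T := fun x hx => hall x (hPle hx) (P.2.to_le (zpowers_le.2 hx))
      have e := P.3 hT hPT
      refine hPn ⟨fun x hx g => ?_⟩
      rw [← e] at hx ⊢
      refine hall _ (hCn.conj_mem x (hTC hx) g) ?_
      obtain ⟨k, hk⟩ := hT ⟨x, hx⟩
      obtain ⟨j, -, hj⟩ := (Nat.dvd_prime_pow hp).1
        (orderOf_dvd_of_pow_eq_one (congrArg Subtype.val hk : x ^ p ^ k = 1))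
      refine isPGroup_zpowers_of_orderOf (k := j) ?_
      rw [← MulAut.conj_apply, MulEquiv.orderOf_eq, hj]
  -- simplicity
  have hsimple : IsSimpleGroup G := by
    haveI : Nontrivial G := ⟨⟨z, 1, hz1⟩⟩
    refine ⟨fun M hM => ?_⟩
    haveI := hM
    by_contra hcon
    push Not at hcon
    obtain hn' | ⟨S, hSM, hS, hN, hall⟩ := IHsub M hcon.2
    · haveI := Transfer.pResidual_characteristic (G := M) p
      haveI : ((Cfsg.pResidual p M).map M.subtype).Normal := ConjAct.normal_of_characteristic_of_normal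
      have hK := hR0 ((Cfsg.pResidual p M).map M.subtype) (by
        rw [card_map_of_injective M.subtype_injective]
        exact Transfer.hasNormalPComplement_iff.1 hn')
      rw [map_eq_bot_iff_of_injective _ M.subtype_injective] at hK
      have hq := Transfer.isPGroup_quotient_pResidual (G := M) p
      refine hcon.1 (hS0 M hM fun c => ?_)
      obtain ⟨k, hk⟩ := hq (QuotientGroup.mk c)
      refine ⟨k, ?_⟩
      rw [← QuotientGroup.mk_pow, QuotientGroup.eq_one_iff, hK, mem_bot] at hk
      exact hk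
    · have hSn : S.Normal := ⟨fun x hx g => hall _ (hM.conj_mem x (hSM hx) g) (by
        obtain ⟨k, hk⟩ := hS ⟨x, hx⟩
        obtain ⟨j, -, hj⟩ := (Nat.dvd_prime_pow hp).1
          (orderOf_dvd_of_pow_eq_one (congrArg Subtype.val hk : x ^ p ^ k = 1))
        refine isPGroup_zpowers_of_orderOf (k := j) ?_
        rw [← MulAut.conj_apply, MulEquiv.orderOf_eq, hj])⟩
      have hSb := hS0 S hSn hS
      refine hcon.1 (hR0 M fun hd => ?_)
      obtain ⟨y, hy⟩ := exists_prime_orderOf_dvd_card' (G := M) p hd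
      have hyo : orderOf (y : G) = p := by rw [Subgroup.orderOf_coe, hy]
      have := hall y y.2 (isPGroup_zpowers_of_orderOf (k := 1) (by rw [hyo, pow_one]))
      rw [hSb, mem_bot] at this
      exact hp.ne_one (by rw [← hyo, this, orderOf_one])
  haveI := hsimple
  -- `N(⟨z⟩) = N(P)`
  have hconjz : ∀ g : G, g * z * g⁻¹ ∈ (P : Subgroup G) →
      g ∈ normalizer ((P : Subgroup G) : Set G) := by
    set M := normalizer ((zpowers z : Subgroup G) : Set G) with hM
    have hmem : ∀ g : G, g * z * g⁻¹ ∈ (P : Subgroup G) → g ∈ M := by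
      intro g hg
      have h1 := hpow _ hg (by rw [conj_pow, ← hz, pow_orderOf_eq_one]; group)
      have hle : (zpowers z).map (MulAut.conj g).toMonoidHom ≤ zpowers z := by
        rw [MonoidHom.map_zpowers]
        exact zpowers_le.2 h1
      have e := eq_of_le_of_card_ge hle
        (card_map_of_injective (f := (MulAut.conj g).toMonoidHom) (MulAut.conj g).injective).ge
      rw [hM, mem_normalizer_iff]
      intro w
      constructor
      · intro hw
        exact hle ⟨w, hw, rfl⟩
      · intro hw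
        rw [← e] at hw
        obtain ⟨w', hw', e'⟩ := hw
        rwa [← (MulAut.conj g).injective (e' : (MulAut.conj g) w' = (MulAut.conj g) w)]
    have hMtop : M ≠ ⊤ := by
      intro e
      haveI : (zpowers z).Normal := normalizer_eq_top_iff.1 e
      have := hS0 (zpowers z) inferInstance (P.2.to_le (zpowers_le.2 hzP))
      exact hz1 (mem_bot.1 (this ▸ mem_zpowers z))
    have hPM : (P : Subgroup G) ≤ M := fun x hx => hmem x (by
      rw [(mem_centralizer_iff.1 (hPC hx) z hzP).symm, mul_inv_cancel_right]; exact hzP)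
    have hbM : b ∈ M := hmem b ((mem_normalizer_iff.1 hbN z).1 hzP)
    intro g hg
    obtain hn' | ⟨T, -, hT, hN, hall⟩ := IHsub M hMtop
    · exact absurd (mem_centralizer_of_complement hn' P.2 hPM hbM hbN hbp) hbC
    · have hPT : (P : Subgroup G) ≤ T := fun x hx =>
        hall x (hPM hx) (P.2.to_le (zpowers_le.2 hx))
      have e := P.3 hT hPT
      rw [e] at hN
      exact hN (hmem g hg)
  -- a complement of `P` in its normaliser
  set N := normalizer ((P : Subgroup G) : Set G) with hN
  have hPN : (P : Subgroup G) ≤ N := le_normalizer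
  set P' : Sylow p N := P.subtype hPN with hP'
  haveI : (P' : Subgroup N).Normal := by
    rw [hP', Sylow.coe_subtype]; exact normal_in_normalizer
  obtain ⟨B', hB'⟩ := exists_right_complement'_of_coprime (Transfer.sylow_coprime P')
  have hS : Setup p P z (B'.map N.subtype) := by
    refine ⟨hsimple, hnpc, hab, hcyc, IHsub, hz, hzP, hconjz, map_subtype_le _, ?_, ?_⟩
    · rw [card_map_of_injective N.subtype_injective]
      intro hd
      have hidx : (P' : Subgroup N).index = Nat.card B' := hB'.symm.index_eq_card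
      exact P'.not_dvd_index (hidx ▸ hd)
    · intro x hx
      obtain ⟨⟨a, v⟩, hav⟩ := hB'.surjective ⟨x, hx⟩
      refine ⟨(a : N), ?_, (v : N), ⟨v, v.2, rfl⟩, ?_⟩
      · have h2 : (a : N) ∈ (P : Subgroup G).subgroupOf N := a.2
        exact h2
      · exact (congrArg Subtype.val hav).symm
  by_cases hfree : ∀ v ∈ B'.map N.subtype, v ∈ centralizer ((P : Subgroup G) : Set G) → v = 1
  · exact hS.false_of_free hfree
  · push Not at hfree
    obtain ⟨v, hv, hvC, hv1⟩ := hfree
    exact hS.false_of_nonfree hv hvC hv1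

theorem good (hcyc : CycSyl p G) (hab : AbPrime p G) : Good p G := good_aux _ G rfl hcyc hab

end Cfsg.Agent.CyclicSylow
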