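import Cfsg.Agent.Lib.CyclicSylow.Setup
import Mathlib.RingTheory.ZMod.UnitsCyclic

/-!
# An element of prime order of `B` centralising `P`

It has order 2 and `p = 3`.
-/

set_option autoImplicit false

namespace Cfsg.Agent.CyclicSylow.Setup

open Subgroup

variable {G : Type*} [Group G] [Finite G] {p : ℕ} [Fact p.Prime]
variable {P : Sylow p G} {z : G} {B : Subgroup G}

/-- Action of `B` on the subgroup of order `p`: the image is cyclic of order dividing `p - 1`. -/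
theorem card_le_mul (h : Setup p P z B) {E : Subgroup G}
    (hEN : E ≤ normalizer ((P : Subgroup G) : Set G)) (hEp : ∀ e ∈ E, ¬ p ∣ orderOf e) {q : ℕ}
    (hq : q.Prime) (hE : ∀ e ∈ E, e ^ q = 1) :
    Nat.card E ≤ q * Nat.card ↥(E ⊓ centralizer ((P : Subgroup G) : Set G)) ∧
      (¬ E ≤ centralizer ((P : Subgroup G) : Set G) → q ∣ p - 1) := by
  classical
  set Z := zpowers z with hZ
  have hEZ : E ≤ normalizer (Z : Set G) := by
    intro e he
    have key : ∀ d ∈ E, ∀ w ∈ Z, d * w * d⁻¹ ∈ Z := by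
      intro d hd w hw
      obtain ⟨i, rfl⟩ := mem_zpowers_iff.1 hw
      rw [← conj_zpow]
      refine zpow_mem (mem_zpowers_of_pow_eq_one (h.cyc _ P.2) h.hz h.hzP ?_
        ((mem_normalizer_iff.1 (hEN hd) z).1 h.hzP)) i
      rw [conj_pow, ← h.hz, pow_orderOf_eq_one]; group
    rw [mem_normalizer_iff]
    refine fun w => ⟨key e he w, fun hw => ?_⟩
    have := key _ (inv_mem he) _ hw
    rwa [show e⁻¹ * (e * w * e⁻¹) * e⁻¹⁻¹ = w by group] at this
  have hcardZ : Nat.card Z = p := by rw [hZ, Nat.card_zpowers, h.hz]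
  let φ : E →* MulAut Z := Z.normalizerMonoidHom.comp (Subgroup.inclusion hEZ)
  have hker : φ.ker = (E ⊓ centralizer ((P : Subgroup G) : Set G)).subgroupOf E := by
    ext ⟨e, he⟩
    have : φ.ker = (centralizer (Z : Set G)).comap (E.subtype) := by
      ext ⟨d, hd⟩
      show Subgroup.inclusion hEZ ⟨d, hd⟩ ∈ Z.normalizerMonoidHom.ker ↔ _
      rw [normalizerMonoidHom_ker]
      exact Iff.rfl
    rw [this, mem_subgroupOf, mem_inf]
    constructor
    · intro hc
      refine ⟨he, ?_⟩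
      exact commute_of_fix (h.cyc _ P.2) P.2 (hEN he) (hEp e he) h.hzP h.z_ne_one
        (mem_centralizer_iff.1 hc z (mem_zpowers z)).symm
    · rintro ⟨-, hc⟩
      exact mem_centralizer_iff.2 fun w hw =>
        mem_centralizer_iff.1 hc w (zpowers_le.2 h.hzP hw)
  haveI : IsCyclic (MulAut Z) := by
    haveI : IsCyclic (ZMod (Nat.card Z))ˣ := by
      rw [hcardZ]; exact ZMod.isCyclic_units_prime Fact.out
    exact isCyclic_of_surjective (IsCyclic.mulAutMulEquiv Z).symm.toMonoidHom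
      (IsCyclic.mulAutMulEquiv Z).symm.surjective
  haveI : Finite (MulAut Z) := Nat.finite_of_card_ne_zero (by
    rw [IsCyclic.card_mulAut]; exact (Nat.totient_pos.2 Nat.card_pos).ne')
  haveI := Fintype.ofFinite φ.range
  have hr : Nat.card φ.range ≤ q := by
    have h1 := IsCyclic.card_pow_eq_one_le (α := φ.range) (n := q) hq.pos
    rw [Finset.filter_true_of_mem, Finset.card_univ, ← Nat.card_eq_fintype_card] at h1
    · exact h1
    · rintro ⟨_, e, rfl⟩ -
      apply Subtype.ext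
      show φ e ^ q = 1
      rw [← map_pow, show e ^ q = 1 from Subtype.ext (hE e e.2), map_one]
  refine ⟨?_, fun hne => ?_⟩
  · rw [← card_mul_index φ.ker, index_ker, hker,
      Nat.card_congr (subgroupOfEquivOfLe inf_le_left).toEquiv, mul_comm q]
    exact Nat.mul_le_mul_left _ hr
  · obtain ⟨e, he, hec⟩ := Set.not_subset.1 hne
    have hφ : φ ⟨e, he⟩ ≠ 1 := fun e1 => hec (by
      have : (⟨e, he⟩ : E) ∈ φ.ker := e1
      rw [hker, mem_subgroupOf, mem_inf] at this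
      exact this.2)
    have : orderOf (φ ⟨e, he⟩) = q := by
      haveI := Fact.mk hq
      exact orderOf_eq_prime (by
        rw [← map_pow, show (⟨e, he⟩ : E) ^ q = 1 from Subtype.ext (hE e he), map_one]) hφ
    rw [← this, ← Nat.totient_prime (Fact.out : p.Prime)]
    conv_rhs => rw [← hcardZ, ← IsCyclic.card_mulAut]
    exact orderOf_dvd_natCard _

/-- An element of prime order of `B ∩ C(P)` has order 2, `p = 3`, and the involutions of an abelian
Sylow 2-subgroup containing it are conjugate, only one centralising `P`. -/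
theorem prime_centralizing (h : Setup p P z B) {x : G} {q : ℕ} [Fact q.Prime] (hxo : orderOf x = q)
    (hxB : x ∈ B) (hxC : x ∈ centralizer ((P : Subgroup G) : Set G)) (Q : Sylow q G)
    (hxQ : x ∈ (Q : Subgroup G)) :
    p = 3 ∧ q = 2 ∧ (Q : Subgroup G) ≤ normalizer ((P : Subgroup G) : Set G) ∧
      (∃ y ∈ (Q : Subgroup G), y * y = 1 ∧ y ∉ centralizer ((P : Subgroup G) : Set G)) ∧
      (∀ y ∈ (Q : Subgroup G), y * y = 1 → y ∈ centralizer ((P : Subgroup G) : Set G) →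
        y = 1 ∨ y = x) ∧
      (∀ y ∈ (Q : Subgroup G), y * y = 1 → y ≠ 1 →
        ∃ g ∈ normalizer ((Q : Subgroup G) : Set G), g * x * g⁻¹ = y) := by
  classical
  have hp : p.Prime := Fact.out
  have hq : q.Prime := Fact.out
  haveI := h.simple
  set N := normalizer ((P : Subgroup G) : Set G) with hN
  set C := centralizer ((P : Subgroup G) : Set G) with hC
  have hx1 : x ≠ 1 := fun e => hq.ne_one (by rw [← hxo, e, orderOf_one])
  have hqp : q ≠ p := fun e => not_dvd_orderOf_of_mem h.hBp hxB (by rw [hxo, e])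
  obtain ⟨k, hk⟩ := IsPGroup.iff_card.1 Q.2
  have hQp : ¬ p ∣ Nat.card Q := by
    rw [hk]
    exact fun e => hqp ((Nat.prime_dvd_prime_iff_eq hp hq).1 (hp.dvd_of_dvd_pow e)).symm
  have hQc : ∀ {a b : G}, a ∈ (Q : Subgroup G) → b ∈ (Q : Subgroup G) → Commute a b :=
    fun ha hb => h.ab.comm hQp ha hb
  have hQN : (Q : Subgroup G) ≤ N := fun y hy =>
    h.centralizer_le hxB hx1 hxC (mem_centralizer_singleton_iff.2 (hQc hy hxQ))
  -- a `p`-element `σ` normalising `Q`, not centralising it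
  obtain ⟨σ, hσN, hσC, hσp⟩ : ∃ σ ∈ normalizer ((Q : Subgroup G) : Set G),
      σ ∉ centralizer ((Q : Subgroup G) : Set G) ∧ IsPGroup p (zpowers σ) := by
    by_contra hcon
    push Not at hcon
    obtain ⟨S, K, hK, hc⟩ :=
      Transfer.hasNormalPComplement_of_normalizer_le_centralizer Q fun g hg => by
      obtain ⟨a, b, rfl, ha, hb, hap, hbp⟩ := exists_parts (p := p) g
      have haN := zpowers_le.2 hg ha
      have hbN := zpowers_le.2 hg hb
      refine mul_mem (by_contra fun hh => hcon a haN hh hap) (mem_centralizer_iff.2 fun y hy => ?_)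
      have hsup : ¬ p ∣ Nat.card ↥(zpowers b ⊔ (Q : Subgroup G)) := by
        intro hd
        obtain ⟨w, hw⟩ := exists_prime_orderOf_dvd_card'
          (G := ↥(zpowers b ⊔ (Q : Subgroup G))) p hd
        obtain ⟨b', hb', c, hc, hbc⟩ :=
          (Coprime.mem_sup_iff_of_le_normalizer (zpowers_le.2 hbN)).1 w.2
        have hwo : orderOf (b' * c) = p := by rw [hbc, Subgroup.orderOf_coe, hw]
        have hpow : ∀ n : ℕ, ∃ d ∈ (Q : Subgroup G), (b' * c) ^ n = b' ^ n * d := by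
          intro n
          induction n with
          | zero => exact ⟨1, one_mem _, by simp⟩
          | succ n ih =>
            obtain ⟨d, hd, e⟩ := ih
            have hb'N : b'⁻¹ ∈ normalizer ((Q : Subgroup G) : Set G) :=
              inv_mem (zpowers_le.2 hbN hb')
            refine ⟨b'⁻¹ * d * b'⁻¹⁻¹ * c,
              mul_mem ((mem_normalizer_iff.1 hb'N d).1 hd) hc, ?_⟩
            rw [pow_succ, e, pow_succ]; group
        obtain ⟨d, hd, e⟩ := hpow (orderOf b)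
        rw [orderOf_dvd_iff_pow_eq_one.1 ((orderOf_dvd_of_mem_zpowers hb')), one_mul] at e
        have hd1 : orderOf ((b' * c) ^ orderOf b) = p := by
          rw [Nat.Coprime.orderOf_pow, hwo]
          rw [hwo]
          exact hp.coprime_iff_not_dvd.2 hbp
        rw [e] at hd1
        exact hQp (hd1 ▸ orderOf_dvd_natCard _ hd)
      exact (h.ab.comm hsup (mem_sup_left (mem_zpowers b)) (mem_sup_right hy)).symm.eq
    rcases IsSimpleGroup.eq_bot_or_eq_top_of_normal K hK with e | e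
    · rw [e, isComplement'_bot_left] at hc
      obtain ⟨j, hj⟩ := IsPGroup.iff_card.1 S.2
      rw [hc, card_top] at hj
      have hpG : p ∣ Nat.card G := by rw [← h.hz]; exact orderOf_dvd_natCard z
      rw [hj] at hpG
      exact hqp ((Nat.prime_dvd_prime_iff_eq hp hq).1 (hp.dvd_of_dvd_pow hpG)).symm
    · rw [e, isComplement'_top_left] at hc
      have hS1 := S.card_eq_multiplicity
      rw [hc, card_bot, ← Q.card_eq_multiplicity] at hS1
      refine hx1 ?_
      have : (Q : Subgroup G) = ⊥ := eq_bot_of_card_eq _ hS1.symm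
      rw [this, mem_bot] at hxQ
      exact hxQ
  -- powers of `σ` in `N` centralise `Q`
  have hσcent : ∀ τ ∈ zpowers σ, τ ∈ N → τ ∈ centralizer ((Q : Subgroup G) : Set G) := by
    intro τ hτ hτN
    have hτP : τ ∈ (P : Subgroup G) :=
      mem_sylow_of_mem_normalizer P hτN (hσp.to_le (zpowers_le.2 hτ))
    have hτQ := zpowers_le.2 hσN hτ
    rw [mem_centralizer_iff]
    intro y hy
    have h1 : τ * y * τ⁻¹ * y⁻¹ ∈ (Q : Subgroup G) :=
      mul_mem ((mem_normalizer_iff.1 hτQ y).1 hy) (inv_mem hy)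
    have h2 : τ * y * τ⁻¹ * y⁻¹ ∈ (P : Subgroup G) := by
      rw [show τ * y * τ⁻¹ * y⁻¹ = τ * (y * τ⁻¹ * y⁻¹) by group]
      exact mul_mem hτP ((mem_normalizer_iff.1 (hQN hy) _).1 (inv_mem hτP))
    have h3 := eq_one_of_mem_not_dvd hQp h1 P.2 h2
    rw [show τ * y * τ⁻¹ * y⁻¹ = τ * y * (y * τ)⁻¹ by group, mul_inv_eq_one] at h3
    exact h3.symm
  -- `E = Ω₁(Q)`
  let E : Subgroup G :=
    { carrier := {y | y ∈ (Q : Subgroup G) ∧ y ^ q = 1}
      one_mem' := ⟨one_mem _, one_pow q⟩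
      mul_mem' := fun {a b} ha hb =>
        ⟨mul_mem ha.1 hb.1, by rw [(hQc ha.1 hb.1).mul_pow, ha.2, hb.2, one_mul]⟩
      inv_mem' := fun {a} ha => ⟨inv_mem ha.1, by rw [inv_pow, ha.2, inv_one]⟩ }
  have hEQ : ∀ {y}, y ∈ E → y ∈ (Q : Subgroup G) := fun hy => hy.1
  have hxE : x ∈ E := ⟨hxQ, by rw [← hxo, pow_orderOf_eq_one]⟩
  have hEconj : ∀ τ ∈ zpowers σ, ∀ y ∈ E, τ * y * τ⁻¹ ∈ E := fun τ hτ y hy =>
    ⟨(mem_normalizer_iff.1 (zpowers_le.2 hσN hτ) y).1 hy.1, by rw [conj_pow, hy.2]; group⟩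
  have hsep : ∀ τ ∈ zpowers σ, ∀ v ∈ E, v ∈ C → v ≠ 1 → τ * v * τ⁻¹ ∈ C →
      τ ∈ centralizer ((Q : Subgroup G) : Set G) := by
    intro τ hτ v hv hvC hv1 hwC
    refine hσcent τ hτ ?_
    set w := τ * v * τ⁻¹ with hw
    have hwE := hEconj τ hτ v hv
    have hwB : w ∈ B := h.mem_B (hQN (hEQ hwE)) (not_dvd_orderOf_of_mem hQp (hEQ hwE)) hwC
    have hle := h.centralizer_le hwB (by rw [hw, Ne, conj_eq_one_iff]; exact hv1) hwC
    have hcm : Commute (τ * z * τ⁻¹) w :=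
      (Commute.conj_iff τ).2 (mem_centralizer_iff.1 hvC z h.hzP)
    refine h.conjz τ (mem_sylow_of_mem_normalizer P (hle (mem_centralizer_singleton_iff.2 hcm.eq))
      (isPGroup_zpowers_of_orderOf (k := 1) ?_))
    rw [← MulAut.conj_apply, MulEquiv.orderOf_eq, h.hz, pow_one]
  have hxC' : x ∈ E ⊓ C := ⟨hxE, hxC⟩
  -- bounds
  obtain ⟨hle, hdvd⟩ := h.card_le_mul (E := E) (fun y hy => hQN (hEQ hy))
    (fun y hy => not_dvd_orderOf_of_mem hQp (hEQ hy)) hq (fun y hy => hy.2)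
  have hE0q : q ≤ Nat.card ↥(E ⊓ C) := by
    refine Nat.le_of_dvd Nat.card_pos ?_
    rw [← hxo]
    exact orderOf_dvd_natCard _ hxC'
  have hsq : Nat.card ↥(E ⊓ C) * Nat.card ↥(E ⊓ C) ≤ Nat.card E := by
    rw [← Nat.card_prod]
    refine Nat.card_le_card_of_injective (fun w : ↥(E ⊓ C) × ↥(E ⊓ C) =>
      (⟨w.1.1 * (σ * w.2.1 * σ⁻¹), mul_mem w.1.2.1 (hEconj σ (mem_zpowers σ) _ w.2.2.1)⟩ : E)) ?_
    rintro ⟨a, b⟩ ⟨a', b'⟩ e
    have e' : a.1 * (σ * b.1 * σ⁻¹) = a'.1 * (σ * b'.1 * σ⁻¹) := congrArg Subtype.val e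
    have e1 : σ * (b.1 * b'.1⁻¹) * σ⁻¹ = a.1⁻¹ * a'.1 := by
      calc σ * (b.1 * b'.1⁻¹) * σ⁻¹ = (σ * b.1 * σ⁻¹) * (σ * b'.1 * σ⁻¹)⁻¹ := by group
        _ = a.1⁻¹ * (a.1 * (σ * b.1 * σ⁻¹)) * (σ * b'.1 * σ⁻¹)⁻¹ := by group
        _ = _ := by rw [e']; group
    have hb : b.1 = b'.1 := by
      by_contra hb
      refine hσC (hsep σ (mem_zpowers σ) _ (mul_mem b.2.1 (inv_mem b'.2.1))
        (mul_mem b.2.2 (inv_mem b'.2.2)) (fun hh => hb (mul_inv_eq_one.1 hh)) ?_)
      rw [e1]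
      exact mul_mem (inv_mem a.2.2) a'.2.2
    rw [hb] at e'
    exact Prod.ext (Subtype.ext (mul_right_cancel e')) (Subtype.ext hb)
  have hE0 : Nat.card ↥(E ⊓ C) = q :=
    le_antisymm (Nat.le_of_mul_le_mul_right (hsq.trans hle) Nat.card_pos) hE0q
  have hEq : Nat.card E ≤ q * q := by rw [← hE0] at hle ⊢; exact hle
  have hnot : σ * x * σ⁻¹ ∉ C := fun e => hσC (hsep σ (mem_zpowers σ) x hxE hxC hx1 e)
  have hqd : q ∣ p - 1 := hdvd fun e => hnot (e (hEconj σ (mem_zpowers σ) x hxE))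
  -- `τ`: acts on `Q` with order `p`
  obtain ⟨τ, hτ, hτC, hτp⟩ : ∃ τ ∈ zpowers σ, τ ∉ centralizer ((Q : Subgroup G) : Set G) ∧
      τ ^ p ∈ centralizer ((Q : Subgroup G) : Set G) := by
    have hex : ∃ n : ℕ, σ ^ p ^ n ∈ centralizer ((Q : Subgroup G) : Set G) := by
      obtain ⟨n, hn⟩ := hσp ⟨σ, mem_zpowers σ⟩
      refine ⟨n, ?_⟩
      rw [show σ ^ p ^ n = 1 from congrArg Subtype.val hn]
      exact one_mem _
    have h0 : Nat.find hex ≠ 0 := fun e => hσC (by
      have := Nat.find_spec hex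
      rwa [e, pow_zero, pow_one] at this)
    obtain ⟨j, hj⟩ := Nat.exists_eq_succ_of_ne_zero h0
    refine ⟨σ ^ p ^ j, pow_mem (mem_zpowers σ) _, Nat.find_min hex (by omega), ?_⟩
    have := Nat.find_spec hex
    rwa [hj, Nat.succ_eq_add_one, pow_succ, pow_mul] at this
  let f : Fin p × {v : ↥(E ⊓ C) // v ≠ 1} → {v : E // v ≠ 1} := fun w =>
    ⟨⟨τ ^ (w.1 : ℕ) * w.2.1.1 * (τ ^ (w.1 : ℕ))⁻¹,
      hEconj _ (pow_mem hτ _) _ w.2.1.2.1⟩, fun e => w.2.2 (Subtype.ext
        (conj_eq_one_iff.1 (congrArg Subtype.val e)))⟩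
  have hfinj : Function.Injective f := by
    rintro ⟨i, v⟩ ⟨i', v'⟩ e
    have e' : τ ^ (i : ℕ) * v.1.1 * (τ ^ (i : ℕ))⁻¹ = τ ^ (i' : ℕ) * v'.1.1 * (τ ^ (i' : ℕ))⁻¹ :=
      congrArg (fun r => r.1.1) e
    have hzi : τ ^ ((i : ℤ) - (i' : ℤ)) ∈ centralizer ((Q : Subgroup G) : Set G) := by
      refine hsep _ (zpow_mem hτ _) v.1.1 v.1.2.1 v.1.2.2 (fun hh => v.2 (Subtype.ext hh)) ?_
      have : τ ^ ((i : ℤ) - (i' : ℤ)) * v.1.1 * (τ ^ ((i : ℤ) - (i' : ℤ)))⁻¹ = v'.1.1 := by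
        rw [zpow_sub, zpow_natCast, zpow_natCast]
        calc τ ^ (i : ℕ) * (τ ^ (i' : ℕ))⁻¹ * v.1.1 * (τ ^ (i : ℕ) * (τ ^ (i' : ℕ))⁻¹)⁻¹
            = (τ ^ (i' : ℕ))⁻¹ * (τ ^ (i : ℕ) * v.1.1 * (τ ^ (i : ℕ))⁻¹) * τ ^ (i' : ℕ) := by
              group
          _ = _ := by rw [e']; group
      rw [this]
      exact v'.1.2.2
    have hii : i = i' := by
      by_contra hne
      apply hτC
      have hnd : ¬ (p : ℤ) ∣ (i : ℤ) - (i' : ℤ) := by
        intro hd
        have := Int.eq_zero_of_abs_lt_dvd hd (by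
          have := i.2; have := i'.2; rw [abs_lt]; omega)
        exact hne (Fin.ext (by omega))
      obtain ⟨s, t, hst⟩ := (Nat.prime_iff_prime_int.mp hp).coprime_iff_not_dvd.mpr hnd
      rw [← zpow_one τ, ← hst, zpow_add, mul_comm s, zpow_mul, mul_comm t, zpow_mul,
        zpow_natCast]
      exact mul_mem (zpow_mem hτp _) (zpow_mem hzi _)
    subst hii
    refine Prod.ext rfl (Subtype.ext (Subtype.ext ?_))
    simpa using e'
  haveI := Fintype.ofFinite E
  haveI := Fintype.ofFinite ↥(E ⊓ C)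
  have hcnt : p * (q - 1) ≤ Nat.card E - 1 := by
    have := Nat.card_le_card_of_injective f hfinj
    rw [Nat.card_prod, Nat.card_fin, Nat.card_eq_fintype_card (α := {v : E // v ≠ 1}),
      Nat.card_eq_fintype_card (α := {v : ↥(E ⊓ C) // v ≠ 1}), Fintype.card_subtype_compl,
      Fintype.card_subtype_compl, Fintype.card_subtype_eq, Fintype.card_subtype_eq,
      ← Nat.card_eq_fintype_card, ← Nat.card_eq_fintype_card, hE0] at this
    exact this
  have hq2 : 2 ≤ q := hq.two_le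
  have hp1 : 0 < p - 1 := by have := hp.two_le; omega
  have hqp1 : q ≤ p - 1 := Nat.le_of_dvd hp1 hqd
  have hple : p ≤ q + 1 := by
    refine Nat.le_of_mul_le_mul_right (?_ : p * (q - 1) ≤ (q + 1) * (q - 1)) (by omega)
    have e : (q + 1) * (q - 1) = q * q - 1 := by
      have := Nat.sq_sub_sq q 1
      simp only [pow_two] at this
      exact this.symm
    omega
  have hpq : p = q + 1 := by omega
  have hq_two : q = 2 := by
    rcases hq.eq_two_or_odd with e | e
    · exact e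
    · exfalso
      rcases hp.eq_two_or_odd with e' | e' <;> omega
  subst hq_two
  have hp3 : p = 3 := by omega
  refine ⟨hp3, rfl, hQN, ⟨σ * x * σ⁻¹, hEQ (hEconj σ (mem_zpowers σ) x hxE), ?_, hnot⟩, ?_, ?_⟩
  · rw [← pow_two]; exact (hEconj σ (mem_zpowers σ) x hxE).2
  · intro y hy hy2 hyC
    by_contra hcon
    push Not at hcon
    haveI := Fintype.ofFinite ↥(E ⊓ C)
    have hyE : y ∈ E ⊓ C := ⟨⟨hy, by rw [pow_two, hy2]⟩, hyC⟩
    have h3 : ({1, ⟨x, hxC'⟩, ⟨y, hyE⟩} : Finset ↥(E ⊓ C)).card = 3 := by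
      rw [Finset.card_eq_three]
      exact ⟨_, _, _, fun e => hx1 (congrArg Subtype.val e).symm,
        fun e => hcon.1 (congrArg Subtype.val e).symm,
        fun e => hcon.2 (congrArg Subtype.val e).symm, rfl⟩
    have h4 := Finset.card_le_univ ({1, ⟨x, hxC'⟩, ⟨y, hyE⟩} : Finset ↥(E ⊓ C))
    rw [h3, ← Nat.card_eq_fintype_card, hE0] at h4
    omega
  · intro y hy hy2 hy1
    have hcard : Nat.card {v : E // v ≠ 1} ≤ Nat.card (Fin p × {v : ↥(E ⊓ C) // v ≠ 1}) := by
      rw [Nat.card_prod, Nat.card_fin, Nat.card_eq_fintype_card (α := {v : E // v ≠ 1}),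
        Nat.card_eq_fintype_card (α := {v : ↥(E ⊓ C) // v ≠ 1}), Fintype.card_subtype_compl,
        Fintype.card_subtype_compl, Fintype.card_subtype_eq, Fintype.card_subtype_eq,
        ← Nat.card_eq_fintype_card, ← Nat.card_eq_fintype_card, hE0, hp3]
      omega
    obtain ⟨⟨i, v⟩, hv⟩ := (hfinj.bijective_of_nat_card_le hcard).2
      ⟨⟨y, hy, by rw [pow_two, hy2]⟩, fun e => hy1 (congrArg Subtype.val e)⟩
    have hvx : v.1.1 = x := by
      haveI := Fintype.ofFinite ↥(E ⊓ C)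
      by_contra hne
      have h3 : ({1, ⟨x, hxC'⟩, v.1} : Finset ↥(E ⊓ C)).card = 3 := by
        rw [Finset.card_eq_three]
        exact ⟨_, _, _, fun e => hx1 (congrArg Subtype.val e).symm, fun e => v.2 e.symm,
          fun e => hne (congrArg Subtype.val e).symm, rfl⟩
      have h4 := Finset.card_le_univ ({1, ⟨x, hxC'⟩, v.1} : Finset ↥(E ⊓ C))
      rw [h3, ← Nat.card_eq_fintype_card, hE0] at h4
      omega
    refine ⟨τ ^ (i : ℕ), pow_mem (zpowers_le.2 hσN hτ) _, ?_⟩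
    have := congrArg (fun r => r.1.1) hv
    simp only [f] at this
    rwa [hvx] at this

end Cfsg.Agent.CyclicSylow.Setup
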