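import Cfsg.Agent.Lib.DefectOne.Principal
import Cfsg.Agent.Lib.CyclicSylow.Basic
import Cfsg.Agent.Lib.BlockCount.SingularSum
import Cfsg.Agent.Lib.PCore.PairCongruence
import Mathlib.GroupTheory.SpecificGroups.Cyclic

/-!
# Counting pairs of elements of order `p` when the Sylow subgroup is cyclic

Suppose the Sylow `p`-subgroup is cyclic with free normalizer action and every two elements of
order `p` generate a p-solvable group.  For `x` of order `p` and `y` of order `p` exactly one of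
the `x ^ -j y` (`0 < j < p`) is p-regular and the others have p-part of order `p`.  Evaluated with
characters this gives `∑ A χ ^ 3 / χ 1 = (p - 1) (p - 2) m q` over the principal block, where
`A χ = ∑ χ (x ^ j)`, `m = |N(P) : C(P)|` and `q = |P|`; also `∑ A χ ^ 2 = (p - 1) m q`.
-/

set_option autoImplicit false
set_option linter.style.haveILetI false
set_option linter.unusedSectionVars false

namespace Cfsg.Agent.CyclicSylow

open Cfsg Cfsg.Agent Cfsg.Agent.Blocks Cfsg.Agent.DefectOne Cfsg.Agent.BlockCount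
open scoped Classical ComplexConjugate

universe u

variable {G : Type u} [Group G] [Fintype G] {p : ℕ} [hp : Fact p.Prime]

/-- The number of elements moving `a` to a conjugate `b` is the order of the centralizer. -/
theorem card_moving {a b : G} (h : IsConj a b) :
    (Finset.univ.filter fun g : G => g * a * g⁻¹ = b).card =
      Nat.card (Subgroup.centralizer ({b} : Set G)) := by
  obtain ⟨c, hc⟩ := isConj_iff.1 h
  rw [Nat.card_eq_fintype_card, ← Finset.card_univ]
  refine Finset.card_bij (fun g hg => (⟨g * c⁻¹, ?_⟩ : Subgroup.centralizer ({b} : Set G)))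
    (fun _ _ => Finset.mem_univ _) (fun g _ g' _ he => ?_) (fun k _ => ?_)
  · rw [Subgroup.mem_centralizer_singleton_iff]
    have hg' := (Finset.mem_filter.1 hg).2
    calc g * c⁻¹ * b = g * c⁻¹ * (c * a * c⁻¹) := by rw [hc]
      _ = g * a * g⁻¹ * (g * c⁻¹) := by group
      _ = b * (g * c⁻¹) := by rw [hg']
  · exact mul_right_cancel (congrArg Subtype.val he)
  · have hk := Subgroup.mem_centralizer_singleton_iff.1 k.2
    refine ⟨(k : G) * c, Finset.mem_filter.2 ⟨Finset.mem_univ _, ?_⟩,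
      Subtype.ext (mul_inv_cancel_right _ _)⟩
    calc (k : G) * c * a * ((k : G) * c)⁻¹ = (k : G) * (c * a * c⁻¹) * (k : G)⁻¹ := by group
      _ = b := by rw [hc, hk, mul_inv_cancel_right]

variable {x : G}

theorem pow_eq_one_of_orderOf {α : Type*} [Monoid α] {a : α} {n : ℕ} (h : orderOf a = n) :
    a ^ n = 1 := h ▸ pow_orderOf_eq_one a

theorem pow_ne_one_of_mem (hx : orderOf x = p) {j : ℕ} (hj : j ∈ Finset.Ico 1 p) : x ^ j ≠ 1 := by
  rw [Finset.mem_Ico] at hj
  exact pow_ne_one_of_lt_orderOf (by omega) (by omega)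

theorem exists_pow_pow (hx : orderOf x = p) {j : ℕ} (hj : j ∈ Finset.Ico 1 p) :
    ∃ k : ℕ, (x ^ j) ^ k = x := by
  rw [Finset.mem_Ico] at hj
  refine exists_pow_eq_self_of_coprime ?_
  rw [hx]
  exact ((Nat.Prime.coprime_iff_not_dvd hp.out).2 fun hd => by
    have := Nat.le_of_dvd (by omega) hd
    omega).symm

theorem orderOf_pow_of_mem (hx : orderOf x = p) {j : ℕ} (hj : j ∈ Finset.Ico 1 p) :
    orderOf (x ^ j) = p :=
  orderOf_eq_prime (by rw [← pow_mul, mul_comm, pow_mul, ← hx, pow_orderOf_eq_one, one_pow])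
    (pow_ne_one_of_mem hx hj)

theorem commute_pow_iff (hx : orderOf x = p) {j : ℕ} (hj : j ∈ Finset.Ico 1 p) {g : G} :
    Commute (x ^ j) g ↔ Commute x g := by
  refine ⟨fun h => ?_, fun h => h.pow_left j⟩
  obtain ⟨k, hk⟩ := exists_pow_pow hx hj
  exact hk ▸ h.pow_left k

theorem card_centralizer_pow (hx : orderOf x = p) {j : ℕ} (hj : j ∈ Finset.Ico 1 p) :
    Nat.card (Subgroup.centralizer ({x ^ j} : Set G)) =
      Nat.card (Subgroup.centralizer ({x} : Set G)) := by
  have h : Subgroup.centralizer ({x ^ j} : Set G) = Subgroup.centralizer ({x} : Set G) := by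
    ext g
    simp only [Subgroup.mem_centralizer_singleton_iff]
    exact ⟨fun h => ((commute_pow_iff hx hj).1 (show Commute (x ^ j) g from h.symm)).eq.symm,
      fun h => ((show Commute x g from h.symm).pow_left j).eq.symm⟩
  rw [h]

variable (p x) in
/-- The p-regular elements commuting with `x`. -/
noncomputable def regCent : Finset G :=
  Finset.univ.filter fun v => Commute x v ∧ IsPRegular p v

variable (p) in
/-- The elements with p-part of order exactly `p`. -/
def IsLow (g : G) : Prop := ¬ IsPRegular p g ∧ IsPRegular p (g ^ p)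

variable {P : Sylow p G}

theorem mem_core_pow (h : FreeData P) (hxP : x ∈ (P : Subgroup G)) (hx : orderOf x = p) {j : ℕ}
    (hj : j ∈ Finset.Ico 1 p) {v : G} (hv : v ∈ regCent p x) :
    v ∈ centralizerPPrimeCore p (x ^ j) := by
  obtain ⟨hv1, hv2⟩ := (Finset.mem_filter.1 hv).2
  exact mem_core_of_commute_regular
    (h.hasNormalPComplement (pow_mem hxP j) (pow_ne_one_of_mem hx hj)) (hv1.pow_left j) hv2

theorem isPPart_pow_mul (h : FreeData P) (hxP : x ∈ (P : Subgroup G)) (hx : orderOf x = p) {j : ℕ}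
    (hj : j ∈ Finset.Ico 1 p) {v : G} (hv : v ∈ regCent p x) : IsPPart p (x ^ j * v) (x ^ j) :=
  isPPart_mul_core (orderOf_pow_of_mem hx hj) (mem_core_pow h hxP hx hj hv)

theorem exists_pow_conj (hc : IsCyclic (P : Subgroup G)) (hxP : x ∈ (P : Subgroup G))
    (hx : orderOf x = p) {y : G} (hy : orderOf y = p) :
    ∃ t : G, ∃ j ∈ Finset.Ico 1 p, t * x ^ j * t⁻¹ = y := by
  obtain ⟨S, hS⟩ := (CyclicSylow.isPGroup_zpowers_of_orderOf (k := 1)
    (by rw [hy, pow_one] : orderOf y = p ^ 1)).exists_le_sylow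
  obtain ⟨t, ht⟩ := MulAction.exists_smul_eq G P S
  have h1 := hS (Subgroup.mem_zpowers y)
  rw [← ht, Sylow.coe_subgroup_smul, Subgroup.mem_pointwise_smul_iff_inv_smul_mem] at h1
  have h2 : t⁻¹ * y * t ∈ (P : Subgroup G) := by simpa [MulAut.conj_inv_apply] using h1
  have h3 : (t⁻¹ * y * t) ^ p = 1 := by
    have := conj_pow (i := p) (a := t⁻¹) (b := y)
    rw [inv_inv] at this
    rw [this, ← hy, pow_orderOf_eq_one]
    simp
  obtain ⟨j, hj, hjy⟩ := (mem_zpowers_iff_mem_range_orderOf).1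
    (CyclicSylow.mem_zpowers_of_pow_eq_one hc hx hxP h3 h2) |> Finset.mem_image.1
  refine ⟨t, j, ?_, by rw [show x ^ j = t⁻¹ * y * t from hjy]; group⟩
  rw [Finset.mem_range, hx] at hj
  rw [Finset.mem_Ico]
  refine ⟨Nat.one_le_iff_ne_zero.2 fun h0 => ?_, hj⟩
  rw [h0] at hjy
  simp only [pow_zero] at hjy
  have : y = 1 := by
    calc y = t * (t⁻¹ * y * t) * t⁻¹ := by group
      _ = 1 := by rw [← hjy]; group
  rw [this, orderOf_one] at hy
  exact hp.out.ne_one hy.symm

theorem card_conj_pow (h : FreeData P) (hc : IsCyclic (P : Subgroup G))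
    (hxP : x ∈ (P : Subgroup G)) (hx : orderOf x = p) {m : ℕ}
    (hm : (Subgroup.centralizer ((P : Subgroup G) : Set G)).relIndex
      (Subgroup.normalizer ((P : Subgroup G) : Set G)) = m) {j : ℕ} (hj : j ∈ Finset.Ico 1 p) :
    ((Finset.Ico 1 p).filter fun k => IsConj (x ^ j) (x ^ k)).card = m := by
  have h1 := h.sum_conj_eq (w := ⟨x ^ j, pow_mem hxP j⟩)
    (fun he => pow_ne_one_of_mem hx hj (congrArg Subtype.val he)) (fun _ => 1)
  rw [Finset.sum_boole, Finset.sum_const, Finset.card_univ, nsmul_eq_mul, mul_one] at h1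
  set C := Subgroup.centralizer ((P : Subgroup G) : Set G)
  set N := Subgroup.normalizer ((P : Subgroup G) : Set G)
  have hNC : Nat.card N = Nat.card C * m := by
    rw [← hm, Subgroup.relIndex, ← Nat.card_congr
      (Subgroup.subgroupOfEquivOfLe (Subgroup.centralizer_le_normalizer _)).toEquiv,
      Subgroup.card_mul_index]
  rw [← Nat.card_eq_fintype_card, hNC, ← Nat.cast_mul] at h1
  refine Eq.trans ?_ (Nat.eq_of_mul_eq_mul_left Nat.card_pos (Nat.cast_injective h1))
  refine Finset.card_bij (fun k _ => (⟨x ^ k, pow_mem hxP k⟩ : (P : Subgroup G)))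
    (fun k hk => Finset.mem_filter.2 ⟨Finset.mem_univ _, (Finset.mem_filter.1 hk).2⟩) ?_ ?_
  · intro a ha b hb hab
    have ha' := Finset.mem_Ico.1 (Finset.mem_filter.1 ha).1
    have hb' := Finset.mem_Ico.1 (Finset.mem_filter.1 hb).1
    exact pow_injOn_Iio_orderOf (Set.mem_Iio.2 (by omega)) (Set.mem_Iio.2 (by omega))
      (congrArg Subtype.val hab)
  · intro w hw
    have hw' := (Finset.mem_filter.1 hw).2
    obtain ⟨c, hc'⟩ := isConj_iff.1 hw'
    have how : orderOf (w : G) = p := by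
      rw [← hc', show c * x ^ j * c⁻¹ = MulAut.conj c (x ^ j) from rfl, MulEquiv.orderOf_eq,
        orderOf_pow_of_mem hx hj]
    obtain ⟨k, hk, hkw⟩ := (mem_zpowers_iff_mem_range_orderOf).1
      (CyclicSylow.mem_zpowers_of_pow_eq_one hc hx hxP (pow_eq_one_of_orderOf how) w.2)
      |> Finset.mem_image.1
    rw [Finset.mem_range, hx] at hk
    refine ⟨k, Finset.mem_filter.2 ⟨Finset.mem_Ico.2 ⟨Nat.one_le_iff_ne_zero.2 fun h0 => ?_, hk⟩,
      by rw [show x ^ k = (w : G) from hkw]; exact hw'⟩, Subtype.ext hkw⟩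
    rw [h0, pow_zero] at hkw
    rw [← hkw, orderOf_one] at how
    exact hp.out.ne_one how.symm

theorem card_normalizer_zpowers (h : FreeData P) (hc : IsCyclic (P : Subgroup G))
    (hxP : x ∈ (P : Subgroup G)) (hx : orderOf x = p) {m : ℕ}
    (hm : (Subgroup.centralizer ((P : Subgroup G) : Set G)).relIndex
      (Subgroup.normalizer ((P : Subgroup G) : Set G)) = m) :
    (Finset.univ.filter fun g : G => g * x * g⁻¹ ∈ Subgroup.zpowers x).card =
      m * Nat.card (Subgroup.centralizer ({x} : Set G)) := by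
  have h1j : (1 : ℕ) ∈ Finset.Ico 1 p := Finset.mem_Ico.2 ⟨le_rfl, hp.out.one_lt⟩
  have hset : (Finset.univ.filter fun g : G => g * x * g⁻¹ ∈ Subgroup.zpowers x) =
      (((Finset.Ico 1 p).filter fun k => IsConj (x ^ 1) (x ^ k))).biUnion
        fun k => Finset.univ.filter fun g : G => g * x * g⁻¹ = x ^ k := by
    ext g
    simp only [Finset.mem_filter, Finset.mem_univ, true_and, Finset.mem_biUnion]
    refine ⟨fun hg => ?_, ?_⟩
    · obtain ⟨k, hk, hkg⟩ := (mem_zpowers_iff_mem_range_orderOf).1 hg |> Finset.mem_image.1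
      rw [Finset.mem_range, hx] at hk
      have hkg' : x ^ k = g * x * g⁻¹ := hkg
      refine ⟨k, ⟨Finset.mem_Ico.2 ⟨Nat.one_le_iff_ne_zero.2 fun h0 => ?_, hk⟩,
        isConj_iff.2 ⟨g, by rw [pow_one, hkg']⟩⟩, hkg'.symm⟩
      rw [h0, pow_zero, eq_comm, conj_eq_one_iff] at hkg'
      rw [hkg', orderOf_one] at hx
      exact hp.out.ne_one hx.symm
    · rintro ⟨k, -, hk⟩
      exact hk ▸ pow_mem (Subgroup.mem_zpowers x) k
  rw [hset, Finset.card_biUnion, Finset.sum_congr rfl
    (g := fun _ => Nat.card (Subgroup.centralizer ({x} : Set G))), Finset.sum_const,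
    card_conj_pow h hc hxP hx hm h1j, smul_eq_mul]
  · intro k hk
    have hk' := Finset.mem_filter.1 hk
    rw [card_moving (a := x) (b := x ^ k) (by simpa using hk'.2), card_centralizer_pow hx hk'.1]
  · intro a ha b hb hab
    rw [Function.onFun, Finset.disjoint_left]
    intro g hga hgb
    simp only [Finset.coe_filter, Set.mem_setOf_eq, Finset.mem_Ico] at ha hb
    exact hab (pow_injOn_Iio_orderOf (Set.mem_Iio.2 (by omega)) (Set.mem_Iio.2 (by omega))
      ((Finset.mem_filter.1 hga).2.symm.trans (Finset.mem_filter.1 hgb).2))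

/-- Sum of a class function over the elements with p-part of order `p`. -/
theorem sum_low (h : FreeData P) (hc : IsCyclic (P : Subgroup G))
    (hxP : x ∈ (P : Subgroup G)) (hx : orderOf x = p) {m : ℕ}
    (hm : (Subgroup.centralizer ((P : Subgroup G) : Set G)).relIndex
      (Subgroup.normalizer ((P : Subgroup G) : Set G)) = m)
    {f : G → ℂ} (hf : IsClassFunction G f) :
    ((m * Nat.card (Subgroup.centralizer ({x} : Set G)) : ℕ) : ℂ) *
        ∑ g ∈ Finset.univ.filter (IsLow p), f g =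
      (Nat.card G : ℂ) * ∑ j ∈ Finset.Ico 1 p, ∑ v ∈ regCent p x, f (x ^ j * v) := by
  let φ : G × ℕ × G → G := fun a => a.1 * (x ^ a.2.1 * a.2.2) * a.1⁻¹
  set D := (Finset.univ : Finset G) ×ˢ (Finset.Ico 1 p ×ˢ regCent p x) with hD
  have hsum : ∑ a ∈ D, f (φ a) =
      (Nat.card G : ℂ) * ∑ j ∈ Finset.Ico 1 p, ∑ v ∈ regCent p x, f (x ^ j * v) := by
    rw [hD, Finset.sum_product, Finset.sum_congr rfl
      (g := fun _ => ∑ j ∈ Finset.Ico 1 p, ∑ v ∈ regCent p x, f (x ^ j * v))
      (fun g _ => by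
        rw [Finset.sum_product]
        exact Finset.sum_congr rfl fun j _ => Finset.sum_congr rfl fun v _ => hf _ g),
      Finset.sum_const, Finset.card_univ, nsmul_eq_mul, Nat.card_eq_fintype_card]
  have hmem : ∀ a ∈ D, a.2.1 ∈ Finset.Ico 1 p ∧ a.2.2 ∈ regCent p x := fun a ha =>
    Finset.mem_product.1 (Finset.mem_product.1 ha).2
  have hpp : ∀ a ∈ D, IsPPart p (φ a) (a.1 * x ^ a.2.1 * a.1⁻¹) := fun a ha =>
    IsPPart.conj (isPPart_pow_mul h hxP hx (hmem a ha).1 (hmem a ha).2) a.1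
  have hmaps : ∀ a ∈ D, φ a ∈ Finset.univ.filter (IsLow p) := by
    intro a ha
    obtain ⟨hj, hv⟩ := hmem a ha
    obtain ⟨hv1, hv2⟩ := (Finset.mem_filter.1 hv).2
    refine Finset.mem_filter.2 ⟨Finset.mem_univ _, fun hreg => ?_, ?_⟩
    · have h1 := IsPPart.unique (hpp a ha) (isPPart_one_of_regular hreg)
      rw [conj_eq_one_iff] at h1
      exact pow_ne_one_of_mem hx hj h1
    · show IsPRegular p ((a.1 * (x ^ a.2.1 * a.2.2) * a.1⁻¹) ^ p)
      rw [conj_pow, isPRegular_conj, (hv1.pow_left _).mul_pow, ← pow_mul, mul_comm a.2.1, pow_mul,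
        ← hx, pow_orderOf_eq_one, one_pow, one_mul, hx]
      exact fun hd => hv2 (hd.trans (orderOf_pow_dvd p))
  rw [← hsum, ← Finset.sum_fiberwise_of_maps_to hmaps, Finset.mul_sum]
  refine Finset.sum_congr rfl fun g hg => ?_
  rw [Finset.sum_congr rfl (g := fun _ => f g) (fun a ha => by rw [(Finset.mem_filter.1 ha).2]),
    Finset.sum_const, nsmul_eq_mul]
  congr 2
  rw [← card_normalizer_zpowers h hc hxP hx hm]
  obtain ⟨hg1, hg2⟩ := (Finset.mem_filter.1 hg).2
  obtain ⟨z, hz⟩ := exists_isPPart (p := p) g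
  have hz1 : z ≠ 1 := by
    rintro rfl
    obtain ⟨w, hw, -, -, hwr⟩ := hz
    rw [one_mul] at hw
    exact hg1 (hw ▸ hwr)
  have hzp : orderOf z = p := by
    refine orderOf_eq_prime ?_ hz1
    obtain ⟨w, hw, hwc, ⟨k, hk⟩, hwr⟩ := hz
    refine IsPPart.unique (g := g ^ p) (p := p) ⟨w ^ p, ?_, hwc.pow_pow p p, ?_, ?_⟩
      (isPPart_one_of_regular hg2)
    · rw [← hwc.mul_pow, hw]
    · obtain ⟨l, -, hl⟩ := (Nat.dvd_prime_pow hp.out).1 (hk ▸ orderOf_pow_dvd (x := z) p)
      exact ⟨l, hl⟩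
    · exact fun hd => hwr (hd.trans (orderOf_pow_dvd p))
  obtain ⟨h0, j0, hj0, hz0⟩ := exists_pow_conj hc hxP hx hzp
  have hzmem : ∀ k : G, k⁻¹ * z * k ∈ Subgroup.zpowers x →
      (k⁻¹ * h0) * x * (k⁻¹ * h0)⁻¹ ∈ Subgroup.zpowers x := by
    intro k hk
    obtain ⟨l, hl⟩ := exists_pow_pow hx hj0
    have h2 := pow_mem hk l
    have h3 : k⁻¹ * z * k = (k⁻¹ * h0) * x ^ j0 * (k⁻¹ * h0)⁻¹ := by rw [← hz0]; group
    rwa [h3, conj_pow, hl] at h2
  refine Eq.symm (Finset.card_bij (fun a _ => a.1⁻¹ * h0) (fun a ha => ?_) ?_ ?_)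
  · obtain ⟨ha1, ha2⟩ := Finset.mem_filter.1 ha
    refine Finset.mem_filter.2 ⟨Finset.mem_univ _, hzmem a.1 ?_⟩
    have := IsPPart.unique (hpp a ha1) (ha2.symm ▸ hz)
    rw [← this]
    rw [show a.1⁻¹ * (a.1 * x ^ a.2.1 * a.1⁻¹) * a.1 = x ^ a.2.1 by group]
    exact pow_mem (Subgroup.mem_zpowers x) _
  · intro a ha b hb hab
    obtain ⟨ha1, ha2⟩ := Finset.mem_filter.1 ha
    obtain ⟨hb1, hb2⟩ := Finset.mem_filter.1 hb
    have h1 : a.1 = b.1 := inv_injective (mul_right_cancel hab)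
    have e1 := IsPPart.unique (hpp a ha1) (ha2.symm ▸ hz)
    have e2 := IsPPart.unique (hpp b hb1) (hb2.symm ▸ hz)
    have h2 : a.2.1 = b.2.1 := by
      have hja := Finset.mem_Ico.1 (hmem a ha1).1
      have hjb := Finset.mem_Ico.1 (hmem b hb1).1
      refine pow_injOn_Iio_orderOf (x := x) (Set.mem_Iio.2 (by omega)) (Set.mem_Iio.2 (by omega)) ?_
      have e3 := e1.trans e2.symm
      rw [h1] at e3
      exact mul_left_cancel (mul_right_cancel e3)
    refine Prod.ext h1 (Prod.ext h2 ?_)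
    have e4 : φ a = φ b := ha2.trans hb2.symm
    simp only [φ, h1, h2] at e4
    exact mul_left_cancel (mul_left_cancel (mul_right_cancel e4))
  · intro k hk
    have hk' := (Finset.mem_filter.1 hk).2
    have hpow : k * x ^ j0 * k⁻¹ ∈ Subgroup.zpowers x := by
      rw [← conj_pow]; exact pow_mem hk' j0
    obtain ⟨j, hjr, hjk⟩ := (mem_zpowers_iff_mem_range_orderOf).1 hpow |> Finset.mem_image.1
    rw [Finset.mem_range, hx] at hjr
    have hjk' : x ^ j = k * x ^ j0 * k⁻¹ := hjk
    have hj : j ∈ Finset.Ico 1 p := Finset.mem_Ico.2 ⟨Nat.one_le_iff_ne_zero.2 fun h0' => by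
      rw [h0', pow_zero, eq_comm, conj_eq_one_iff] at hjk'
      exact pow_ne_one_of_mem hx hj0 hjk', hjr⟩
    obtain ⟨w, hw, hwc, -, hwr⟩ := hz
    set t := h0 * k⁻¹ with ht
    have htz : t * x ^ j * t⁻¹ = z := by rw [hjk', ← hz0, ht]; group
    have hv : t⁻¹ * w * t ∈ regCent p x := by
      refine Finset.mem_filter.2 ⟨Finset.mem_univ _, (commute_pow_iff hx hj).1 ?_, ?_⟩
      · show x ^ j * (t⁻¹ * w * t) = t⁻¹ * w * t * x ^ j
        calc x ^ j * (t⁻¹ * w * t) = t⁻¹ * (t * x ^ j * t⁻¹ * w) * t := by group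
          _ = t⁻¹ * (w * (t * x ^ j * t⁻¹)) * t := by rw [htz, hwc.eq]
          _ = t⁻¹ * w * t * x ^ j := by group
      · have : IsPRegular p (t⁻¹ * w * t⁻¹⁻¹) := (isPRegular_conj _).2 hwr
        rwa [inv_inv] at this
    refine ⟨(t, j, t⁻¹ * w * t), Finset.mem_filter.2
      ⟨Finset.mem_product.2 ⟨Finset.mem_univ _, Finset.mem_product.2 ⟨hj, hv⟩⟩, ?_⟩, ?_⟩
    · show t * (x ^ j * (t⁻¹ * w * t)) * t⁻¹ = g
      rw [show t * (x ^ j * (t⁻¹ * w * t)) * t⁻¹ = t * x ^ j * t⁻¹ * w by group, htz]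
      exact hw
    · show t⁻¹ * h0 = k
      rw [ht]; group

/-- Exactly `p - 2` of the translates `x ^ -j y` have p-part of order `p`. -/
theorem card_low_translates (hc : IsCyclic (P : Subgroup G)) (hx : orderOf x = p) {y : G}
    (hy : orderOf y = p) (hs : IsPSolvable p (Subgroup.closure ({x, y} : Set G))) :
    ((Finset.Ico 1 p).filter fun j => IsLow p ((x ^ j)⁻¹ * y)).card = p - 2 := by
  set H := Subgroup.closure ({x, y} : Set G) with hH
  have hcyc : ∀ R : Subgroup G, IsPGroup p R → IsCyclic R := by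
    intro R hR
    obtain ⟨S, hS⟩ := hR.exists_le_sylow
    obtain ⟨t, ht⟩ := MulAction.exists_smul_eq G P S
    haveI : IsCyclic (P : Subgroup G) := hc
    haveI : IsCyclic (S : Subgroup G) := isCyclic_of_surjective
      (Sylow.equiv P S).toMonoidHom (Sylow.equiv P S).surjective
    exact isCyclic_of_injective (Subgroup.inclusion hS) (Subgroup.inclusion_injective hS)
  have hcycH : ∀ R : Subgroup H, IsPGroup p R → IsCyclic R := fun R hR => by
    haveI := hcyc _ (hR.map H.subtype)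
    exact isCyclic_of_surjective (R.equivMapOfInjective H.subtype H.subtype_injective).symm.toMonoidHom
      (R.equivMapOfInjective H.subtype H.subtype_injective).symm.surjective
  let x' : H := ⟨x, Subgroup.subset_closure (by simp)⟩
  let y' : H := ⟨y, Subgroup.subset_closure (by simp)⟩
  set K := pPrimeCore p H
  set π := QuotientGroup.mk' K
  have habH : ∀ R : Subgroup H, IsPGroup p R → IsMulCommutative R := fun R hR => by
    haveI := hcycH R hR
    infer_instance
  have hcard : ∀ z : H, orderOf (z : G) = p → IsPGroup p (Subgroup.zpowers z) := fun z hz =>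
    IsPGroup.of_card (n := 1) (by rw [Nat.card_zpowers, ← Subgroup.orderOf_coe, hz, pow_one])
  have hπo : ∀ z : H, orderOf (z : G) = p → orderOf (π z) = p := by
    intro z hz
    rw [Subgroup.orderOf_coe] at hz
    refine orderOf_eq_prime (by rw [← map_pow, pow_eq_one_of_orderOf hz, map_one]) fun h1 => ?_
    have hzK : z ∈ K := (QuotientGroup.eq_one_iff z).1 h1
    have := Nat.eq_one_of_dvd_coprimes (PCore.coprime_card_pPrimeCore (p := p) (G := H))
      (Subgroup.orderOf_dvd_natCard K hzK) (hz ▸ dvd_rfl : orderOf z ∣ p)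
    rw [this] at hz
    exact hp.out.ne_one hz.symm
  -- the p-core of the quotient is cyclic
  obtain ⟨R⟩ := (inferInstance : Nonempty (Sylow p H))
  let R' : Sylow p (H ⧸ K) := R.mapSurjective (QuotientGroup.mk'_surjective K)
  haveI : IsCyclic (R : Subgroup H) := hcycH _ R.2
  have hR' : IsCyclic (R' : Subgroup (H ⧸ K)) :=
    isCyclic_of_surjective (π.subgroupMap (R : Subgroup H)) (π.subgroupMap_surjective _)
  have hxm := PCore.pCore_le_sylow R' (PCore.mk_mem_pCore_of_abelian habH hs (hcard x' hx))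
  have hym := PCore.pCore_le_sylow R' (PCore.mk_mem_pCore_of_abelian habH hs (hcard y' hy))
  have hyx : π y' ∈ Subgroup.zpowers (π x') := CyclicSylow.mem_zpowers_of_pow_eq_one hR'
    (hπo x' hx) hxm (pow_eq_one_of_orderOf (hπo y' hy)) hym
  obtain ⟨i, hi, hiy⟩ := (mem_zpowers_iff_mem_range_orderOf).1 hyx |> Finset.mem_image.1
  rw [Finset.mem_range, hπo x' hx] at hi
  have hiy' : π x' ^ i = π y' := hiy
  have hi1 : i ∈ Finset.Ico 1 p := Finset.mem_Ico.2 ⟨Nat.one_le_iff_ne_zero.2 fun h0 => by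
    rw [h0, pow_zero] at hiy'
    have := hπo y' hy
    rw [← hiy', orderOf_one] at this
    exact hp.out.ne_one this.symm, hi⟩
  have hKreg : ∀ z : H, z ∈ K → IsPRegular p (z : G) := fun z hz => by
    show ¬ p ∣ orderOf (z : G)
    rw [Subgroup.orderOf_coe]
    exact fun hd => PCore.not_dvd_card_pPrimeCore (p := p) (G := H)
      (hd.trans (Subgroup.orderOf_dvd_natCard _ hz))
  suffices hset : ((Finset.Ico 1 p).filter fun j => IsLow p ((x ^ j)⁻¹ * y)) =
      (Finset.Ico 1 p).erase i by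
    rw [hset, Finset.card_erase_of_mem hi1, Nat.card_Ico]
    omega
  ext j
  simp only [Finset.mem_filter, Finset.mem_erase]
  by_cases hji : j = i
  · subst hji
    refine iff_of_false (fun hlow => hlow.2.1 ?_) (fun h => h.1 rfl)
    refine hKreg ((x' ^ j)⁻¹ * y') ((QuotientGroup.eq_one_iff _).1 ?_)
    show π _ = 1
    rw [map_mul, map_inv, map_pow, hiy', inv_mul_cancel]
  · refine ⟨fun h => ⟨hji, h.1⟩, fun h => ⟨h.2, ?_, ?_⟩⟩
    · intro hreg
      have hne : π ((x' ^ j)⁻¹ * y') ≠ 1 := by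
        rw [map_mul, map_inv, map_pow, ← hiy', Ne, inv_mul_eq_one]
        intro he
        have hj := Finset.mem_Ico.1 h.2
        exact hji (pow_injOn_Iio_orderOf (x := π x') (Set.mem_Iio.2 (by rw [hπo x' hx]; omega))
          (Set.mem_Iio.2 (by rw [hπo x' hx]; omega)) he)
      refine hne (orderOf_eq_one_iff.1 (Nat.eq_one_of_dvd_coprimes
        ((Nat.Prime.coprime_iff_not_dvd hp.out).2
          (show ¬ p ∣ orderOf (((x' ^ j)⁻¹ * y' : H) : G) from hreg))
        (orderOf_dvd_of_pow_eq_one ?_) ((orderOf_map_dvd π _).trans ?_)))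
      · rw [map_mul, map_inv, map_pow, ← hiy',
          (((Commute.refl (π x')).pow_pow j i).inv_left).mul_pow, inv_pow, ← pow_mul, ← pow_mul,
          mul_comm j, mul_comm i, pow_mul, pow_mul, pow_eq_one_of_orderOf (hπo x' hx)]
        simp
      · rw [Subgroup.orderOf_coe]
    · refine hKreg (((x' ^ j)⁻¹ * y') ^ p) ((QuotientGroup.eq_one_iff _).1 ?_)
      show π _ = 1
      rw [map_pow, map_mul, map_inv, map_pow, ← hiy',
        (((Commute.refl (π x')).pow_pow j i).inv_left).mul_pow, inv_pow, ← pow_mul, ← pow_mul,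
        mul_comm j, mul_comm i, pow_mul, pow_mul, pow_eq_one_of_orderOf (hπo x' hx)]
      simp

end Cfsg.Agent.CyclicSylow
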