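import Cfsg.Agent.Lib.CyclicSylow.PairCount

/-!
# The character identities of the pair count

With `A χ = ∑_{0<j<p} χ (x ^ j)`, over the principal block
`∑ A χ * conj (A χ) = (p - 1) m q` and, if pairs of elements of order `p` generate p-solvable
groups, `∑ conj (A χ) * A χ * A χ / χ 1 = (p - 1) (p - 2) m q`.
-/

set_option autoImplicit false
set_option linter.style.haveILetI false
set_option linter.unusedSectionVars false

namespace Cfsg.Agent.CyclicSylow

open Cfsg Cfsg.Agent Cfsg.Agent.Blocks Cfsg.Agent.DefectOne Cfsg.Agent.BlockCount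
open scoped Classical ComplexConjugate

universe u

variable {G : Type u} [Group G] [Fintype G] {p : ℕ} [hp : Fact p.Prime] {P : Sylow p G} {x : G}
  {M : Ideal AlgInt} [M.IsMaximal]

variable (p x) in
/-- The sum of a character over the non-identity powers of `x`. -/
noncomputable def powSum (χ : IrrCharacter G) : ℂ := ∑ j ∈ Finset.Ico 1 p, χ.1 (x ^ j)

theorem apply_pow_mul (h : FreeData P) (hpM : (p : AlgInt) ∈ M) (hxP : x ∈ (P : Subgroup G))
    (hx : orderOf x = p) {j : ℕ} (hj : j ∈ Finset.Ico 1 p) {v : G} (hv : v ∈ regCent p x)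
    {χ : IrrCharacter G} (hχ : χ ∈ principalBlock M G) : χ.1 (x ^ j * v) = χ.1 (x ^ j) :=
  principal_apply_mul_core hpM ⟨1, by rw [orderOf_pow_of_mem hx hj, pow_one]⟩
    (mem_core_pow h hxP hx hj hv) hχ

theorem card_centralizer_eq (h : FreeData P) (hxP : x ∈ (P : Subgroup G)) (hx : orderOf x = p) :
    Nat.card (Subgroup.centralizer ({x} : Set G)) = Nat.card P * (regCent p x).card := by
  have hx1 : x ≠ 1 := fun h1 => by rw [h1, orderOf_one] at hx; exact hp.out.ne_one hx.symm
  set C := Subgroup.centralizer ({x} : Set G)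
  have hnc := h.hasNormalPComplement hxP hx1
  have hPC : (P : Subgroup G) ≤ C := fun z hz =>
    Subgroup.mem_centralizer_singleton_iff.2 (h.mul_comm hz hxP)
  have hm' : Nat.card (Cfsg.pResidual p C) = (regCent p x).card := by
    rw [Nat.card_eq_fintype_card, ← Finset.card_univ]
    refine Finset.card_bij (fun v _ => ((v : C) : G)) (fun v _ => ?_)
      (fun a _ b _ hab => Subtype.ext (Subtype.ext hab)) (fun v hv => ?_)
    · refine Finset.mem_filter.2 ⟨Finset.mem_univ _,
        (Subgroup.mem_centralizer_singleton_iff.1 (v : C).2).symm, ?_⟩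
      show ¬ p ∣ orderOf ((v : C) : G)
      rw [Subgroup.orderOf_coe]
      exact (Nat.Prime.coprime_iff_not_dvd hp.out).1
        ((Transfer.mem_pResidual_iff hnc _).1 v.2).symm
    · obtain ⟨hv1, hv2⟩ := (Finset.mem_filter.1 hv).2
      refine ⟨⟨⟨v, Subgroup.mem_centralizer_singleton_iff.2 hv1.eq.symm⟩,
        (Transfer.mem_pResidual_iff hnc _).2 ?_⟩, Finset.mem_univ _, rfl⟩
      rw [← Subgroup.orderOf_coe]
      exact ((Nat.Prime.coprime_iff_not_dvd hp.out).2 hv2).symm
  rw [← (Transfer.isComplement'_pResidual (P.subtype hPC)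
    (Transfer.hasNormalPComplement_iff.1 hnc)).card_mul_card, hm', mul_comm]
  congr 1
  exact Nat.card_congr (Subgroup.subgroupOfEquivOfLe hPC).toEquiv

/-- Outside the principal block the sum over `x ^ j V` vanishes. -/
theorem sum_section_eq_zero (h : FreeData P) (hpM : (p : AlgInt) ∈ M)
    (hxP : x ∈ (P : Subgroup G)) (hx : orderOf x = p) {j : ℕ} (hj : j ∈ Finset.Ico 1 p)
    {χ : IrrCharacter G} (hχ : χ ∉ principalBlock M G) :
    ∑ v ∈ regCent p x, χ.1 (x ^ j * v) = 0 := by
  set z := x ^ j with hz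
  set V := regCent p x with hV
  set C := Subgroup.centralizer ({z} : Set G) with hC
  let F : IrrCharacter G → ℂ := fun ψ => ∑ v ∈ V, ψ.1 (z * v)
  have hz1 : z ≠ 1 := pow_ne_one_of_mem hx hj
  have hcard : Nat.card C = Nat.card P * V.card := by
    rw [hC, hz, card_centralizer_pow hx hj, card_centralizer_eq h hxP hx]
  have h1 : ∑ ψ : IrrCharacter G, F ψ * conj (F ψ) = ((V.card * Nat.card C : ℕ) : ℂ) := by
    simp only [F, map_sum, Finset.sum_mul, Finset.mul_sum]
    rw [Finset.sum_comm]
    simp only [Finset.sum_comm (s := (Finset.univ : Finset (IrrCharacter G))), Char.sum_irr_mul_conj]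
    rw [Finset.sum_congr rfl (g := fun _ => (Nat.card C : ℂ)) ?_, Finset.sum_const, nsmul_eq_mul,
      Nat.cast_mul]
    intro v hv
    have hpv := isPPart_pow_mul h hxP hx hj hv
    rw [Finset.sum_congr rfl (g := fun w => (((Finset.univ.filter fun g : G =>
      g * (z * w) * g⁻¹ = z * v).card : ℕ) : ℂ)) ?_, ← Nat.cast_sum]
    · congr 1
      rw [← Finset.card_biUnion fun a ha b hb hab => Finset.disjoint_left.2 fun g hga hgb =>
        hab (mul_left_cancel (mul_left_cancel (mul_right_cancel
          ((Finset.mem_filter.1 hga).2.trans (Finset.mem_filter.1 hgb).2.symm))))]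
      rw [Nat.card_eq_fintype_card, Fintype.card_subtype]
      congr 1
      ext g
      simp only [Finset.mem_biUnion, Finset.mem_filter, Finset.mem_univ, true_and]
      constructor
      · rintro ⟨w, hw, hgw⟩
        have h2 := IsPPart.conj (isPPart_pow_mul h hxP hx hj hw) g
        rw [hgw] at h2
        have h3 := IsPPart.unique h2 hpv
        exact Subgroup.mem_centralizer_singleton_iff.2 (mul_inv_eq_iff_eq_mul.1 h3)
      · intro hg
        have hg' : g * z = z * g := Subgroup.mem_centralizer_singleton_iff.1 hg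
        refine ⟨g⁻¹ * v * g, Finset.mem_filter.2 ⟨Finset.mem_univ _, ?_, ?_⟩, ?_⟩
        · have hgx : Commute x g := (commute_pow_iff hx hj).1 hg'.symm
          exact (hgx.inv_right.mul_right ((Finset.mem_filter.1 hv).2).1).mul_right hgx
        · have : IsPRegular p (g⁻¹ * v * g⁻¹⁻¹) :=
            (isPRegular_conj _).2 ((Finset.mem_filter.1 hv).2).2
          rwa [inv_inv] at this
        · calc g * (z * (g⁻¹ * v * g)) * g⁻¹ = g * z * (g⁻¹ * v) := by group
            _ = z * v := by rw [hg']; group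
    · intro w _
      split_ifs with hcj
      · rw [card_moving hcj]
      · rw [Finset.filter_false_of_mem fun g _ hg => hcj (isConj_iff.2 ⟨g, hg⟩), Finset.card_empty,
          Nat.cast_zero]
  set B := Finset.univ.filter (· ∈ principalBlock M G)
  have h2 : ∑ ψ ∈ B, F ψ * conj (F ψ) = ((V.card * Nat.card C : ℕ) : ℂ) := by
    rw [Finset.sum_congr rfl (g := fun ψ => ((V.card : ℂ) * V.card) * (ψ.1 z * conj (ψ.1 z))) ?_,
      ← Finset.mul_sum, h.sum_principal_sq hpM (pow_mem hxP j) hz1, hcard]
    · push_cast; ring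
    · intro ψ hψ
      have hF : F ψ = (V.card : ℂ) * ψ.1 z := by
        simp only [F]
        rw [Finset.sum_congr rfl (g := fun _ => ψ.1 z) (fun v hv =>
          apply_pow_mul h hpM hxP hx hj hv (Finset.mem_filter.1 hψ).2), Finset.sum_const,
          nsmul_eq_mul]
      rw [hF, map_mul, map_natCast]
      ring
  rw [← Finset.sum_filter_add_sum_filter_not _ (· ∈ principalBlock M G), h2,
    add_eq_left] at h1
  have h3 : ∑ ψ ∈ Finset.univ.filter (fun ψ => ¬ ψ ∈ principalBlock M G),
      Complex.normSq (F ψ) = 0 := by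
    apply Complex.ofReal_injective
    push_cast
    simpa [Complex.mul_conj] using h1
  have h4 := (Finset.sum_eq_zero_iff_of_nonneg fun ψ _ => Complex.normSq_nonneg _).1 h3 χ
    (Finset.mem_filter.2 ⟨Finset.mem_univ _, hχ⟩)
  exact Complex.normSq_eq_zero.1 h4

/-- The second moment of `powSum` over the principal block. -/
theorem sum_powSum_sq (h : FreeData P) (hc : IsCyclic (P : Subgroup G)) (hpM : (p : AlgInt) ∈ M)
    (hxP : x ∈ (P : Subgroup G)) (hx : orderOf x = p) {m : ℕ}
    (hm : (Subgroup.centralizer ((P : Subgroup G) : Set G)).relIndex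
      (Subgroup.normalizer ((P : Subgroup G) : Set G)) = m) :
    ∑ χ ∈ Finset.univ.filter (· ∈ principalBlock M G), powSum p x χ * conj (powSum p x χ) =
      (((p - 1) * m * Nat.card P : ℕ) : ℂ) := by
  simp only [powSum, map_sum, Finset.sum_mul, Finset.mul_sum]
  rw [Finset.sum_comm]
  simp only [Finset.sum_comm (s := Finset.univ.filter (· ∈ principalBlock M G))]
  rw [Finset.sum_congr rfl (g := fun _ => (m : ℂ) * Nat.card P) fun j hj => ?_, Finset.sum_const,
    Nat.card_Ico, nsmul_eq_mul]
  · push_cast; ring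
  · rw [Finset.sum_congr rfl (g := fun k => if IsConj (x ^ k) (x ^ j) then (Nat.card P : ℂ) else 0)
      (fun k hk => h.column_orth hpM (pow_mem hxP k) (pow_ne_one_of_mem hx hk) (pow_mem hxP j)),
      ← Finset.sum_filter, Finset.sum_const, Finset.filter_congr fun k _ => isConj_comm,
      card_conj_pow h hc hxP hx hm hj, nsmul_eq_mul]

/-- Sums of irreducible characters over a shifted low set. -/
theorem sum_low_shift (p : ℕ) (χ : IrrCharacter G) (a : G) :
    ∑ g ∈ Finset.univ.filter (IsLow p), χ.1 (a * g) =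
      (∑ g ∈ Finset.univ.filter (IsLow p), χ.1 g) / χ.1 1 * χ.1 a := by
  set z : MonoidAlgebra ℂ G := ofFun fun g => if IsLow p g then (1 : ℂ) else 0 with hzdef
  have hzc : IsCentralElt z := isCentralElt_ofFun fun g k => by
    have : IsLow p (k * g * k⁻¹) ↔ IsLow p g := by simp only [IsLow, conj_pow, isPRegular_conj]
    by_cases hg : IsLow p g <;> simp [hg, this]
  have hz : z = ∑ g ∈ Finset.univ.filter (IsLow p), MonoidAlgebra.single g (1 : ℂ) := by
    conv_lhs => rw [eq_sum_single z]
    rw [Finset.sum_filter]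
    refine Finset.sum_congr rfl fun g _ => ?_
    rw [hzdef, coeff_ofFun]
    split_ifs <;> simp
  have h := chiL_mul_of_central χ hzc (MonoidAlgebra.single a (1 : ℂ))
  rw [omega, hz, Finset.sum_mul] at h
  simp only [chiL_sum, MonoidAlgebra.single_mul_single, chiL_single, one_mul] at h
  rw [← h]
  exact Finset.sum_congr rfl fun g _ =>
    Char.IsClassFunction.apply_mul_comm (irr_classFun χ) a g

/-- The pair count. -/
theorem sum_powSum_cube (h : FreeData P) (hc : IsCyclic (P : Subgroup G))
    (hpM : (p : AlgInt) ∈ M) (hxP : x ∈ (P : Subgroup G)) (hx : orderOf x = p) {m : ℕ}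
    (hm : (Subgroup.centralizer ((P : Subgroup G) : Set G)).relIndex
      (Subgroup.normalizer ((P : Subgroup G) : Set G)) = m)
    (hpairs : ∀ a b : G, orderOf a = p → orderOf b = p →
      IsPSolvable p (Subgroup.closure ({a, b} : Set G))) :
    ∑ χ ∈ Finset.univ.filter (· ∈ principalBlock M G),
        conj (powSum p x χ) * powSum p x χ * powSum p x χ / χ.1 1 =
      (((p - 1) * (p - 2) * (m * Nat.card P) : ℕ) : ℂ) := by
  set C := Subgroup.centralizer ({x} : Set G) with hC
  set J := Finset.Ico 1 p with hJ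
  set L := Finset.univ.filter (IsLow (G := G) p) with hL
  set O := Finset.univ.filter (fun y : G => orderOf y = p) with hO
  set B := Finset.univ.filter (· ∈ principalBlock M G)
  have hG : (Nat.card G : ℂ) ≠ 0 := Nat.cast_ne_zero.2 Nat.card_pos.ne'
  -- every element of order p meets m of the powers
  have hmeet : ∀ y ∈ O, (J.filter fun k => IsConj y (x ^ k)).card = m := by
    intro y hy
    obtain ⟨t, j, hj, htj⟩ := exists_pow_conj hc hxP hx (Finset.mem_filter.1 hy).2
    rw [← card_conj_pow h hc hxP hx hm hj]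
    congr 1
    refine Finset.filter_congr fun k _ => ?_
    have : IsConj (x ^ j) y := isConj_iff.2 ⟨t, htj⟩
    exact ⟨fun hk => this.trans hk, fun hk => this.symm.trans hk⟩
  have hcls : ∀ k ∈ J, (O.filter fun y => IsConj y (x ^ k)).card * Nat.card C = Nat.card G := by
    intro k hk
    rw [hC, ← card_centralizer_pow hx hk, mul_comm,
      ← Char.card_centralizer_mul_card_conj (x ^ k), Nat.card_eq_fintype_card
      (α := {y : G // IsConj (x ^ k) y}), Fintype.card_subtype]
    congr 2
    ext y
    simp only [hO, Finset.mem_filter, Finset.mem_univ, true_and]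
    refine ⟨fun hy => hy.2.symm, fun hy => ⟨?_, hy.symm⟩⟩
    obtain ⟨c, hc'⟩ := isConj_iff.1 hy
    rw [← hc', show c * x ^ k * c⁻¹ = MulAut.conj c (x ^ k) from rfl, MulEquiv.orderOf_eq,
      orderOf_pow_of_mem hx hk]
  have hOcard : O.card * (m * Nat.card C) = (p - 1) * Nat.card G := by
    have e1 : ∑ y ∈ O, (J.filter fun k => IsConj y (x ^ k)).card =
        ∑ k ∈ J, (O.filter fun y => IsConj y (x ^ k)).card :=
      Finset.sum_card_bipartiteAbove_eq_sum_card_bipartiteBelow _
    rw [Finset.sum_congr rfl hmeet, Finset.sum_const, smul_eq_mul] at e1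
    rw [← mul_assoc, e1, Finset.sum_mul, Finset.sum_congr rfl hcls, Finset.sum_const,
      hJ, Nat.card_Ico, smul_eq_mul]
  have hcount : ∑ i ∈ J, (L.filter fun g => orderOf (x ^ i * g) = p).card = O.card * (p - 2) := by
    have e1 : ∀ i ∈ J, (L.filter fun g => orderOf (x ^ i * g) = p).card =
        (O.filter fun y => IsLow p ((x ^ i)⁻¹ * y)).card := fun i _ => by
      refine Finset.card_bij' (fun g _ => x ^ i * g) (fun y _ => (x ^ i)⁻¹ * y) ?_ ?_ ?_ ?_ <;>
        simp +contextual [hL, hO]
    rw [Finset.sum_congr rfl e1,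
      show ∑ i ∈ J, (O.filter fun y => IsLow p ((x ^ i)⁻¹ * y)).card =
        ∑ y ∈ O, (J.filter fun i => IsLow p ((x ^ i)⁻¹ * y)).card from
        Finset.sum_card_bipartiteAbove_eq_sum_card_bipartiteBelow _,
      Finset.sum_congr rfl fun y hy => card_low_translates hc hx (Finset.mem_filter.1 hy).2
        (hpairs x y hx (Finset.mem_filter.1 hy).2), Finset.sum_const, smul_eq_mul]
  have hcount2 : (((p - 1) * (p - 2) * Nat.card G : ℕ) : ℂ) =
      ∑ i ∈ J, ∑ g ∈ L, ∑ k ∈ J,
        if IsConj (x ^ i * g) (x ^ k) then (Nat.card C : ℂ) else 0 := by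
    have e1 : (p - 1) * (p - 2) * Nat.card G =
        ∑ i ∈ J, ∑ g ∈ L, (J.filter fun k => IsConj (x ^ i * g) (x ^ k)).card * Nat.card C := by
      simp only [← Finset.sum_mul]
      rw [Finset.sum_congr rfl (g := fun i => (L.filter fun g => orderOf (x ^ i * g) = p).card * m)
        ?_, ← Finset.sum_mul, hcount]
      · calc (p - 1) * (p - 2) * Nat.card G = (p - 2) * ((p - 1) * Nat.card G) := by ring
          _ = (p - 2) * (O.card * (m * Nat.card C)) := by rw [hOcard]
          _ = _ := by ring
      · intro i _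
        rw [← smul_eq_mul (a := (L.filter fun g => orderOf (x ^ i * g) = p).card), ← Finset.sum_const]
        conv_rhs => rw [Finset.sum_filter]
        refine Finset.sum_congr rfl fun g _ => ?_
        split_ifs with ho
        · exact hmeet _ (Finset.mem_filter.2 ⟨Finset.mem_univ _, ho⟩)
        · refine Finset.card_eq_zero.2 (Finset.filter_eq_empty_iff.2 fun k hk hk' => ho ?_)
          obtain ⟨c, hc'⟩ := isConj_iff.1 hk'.symm
          rw [← hc', show c * x ^ k * c⁻¹ = MulAut.conj c (x ^ k) from rfl, MulEquiv.orderOf_eq,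
            orderOf_pow_of_mem hx hk]
    rw [e1, Nat.cast_sum]
    refine Finset.sum_congr rfl fun i _ => ?_
    rw [Nat.cast_sum]
    refine Finset.sum_congr rfl fun g _ => ?_
    rw [← Finset.sum_filter, Finset.sum_const, nsmul_eq_mul, Nat.cast_mul]
  -- the same through characters
  have hLsum : ∀ χ : IrrCharacter G, ((m * Nat.card P : ℕ) : ℂ) * ∑ g ∈ L, χ.1 g =
      if χ ∈ B then (Nat.card G : ℂ) * powSum p x χ else 0 := by
    intro χ
    have e1 := sum_low h hc hxP hx hm (irr_classFun χ)
    rw [card_centralizer_eq h hxP hx, ← mul_assoc, Nat.cast_mul, mul_right_comm] at e1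
    have hV0 : ((regCent p x).card : ℂ) ≠ 0 := Nat.cast_ne_zero.2
      (Finset.card_pos.2 ⟨1, Finset.mem_filter.2 ⟨Finset.mem_univ _, Commute.one_right x, by
        simp [IsPRegular, hp.out.ne_one]⟩⟩).ne'
    apply mul_right_cancel₀ hV0
    rw [e1]
    by_cases hχ : χ ∈ B
    · rw [if_pos hχ, powSum, Finset.sum_congr rfl fun j hj => (Finset.sum_congr rfl fun v hv =>
        apply_pow_mul h hpM hxP hx hj hv (Finset.mem_filter.1 hχ).2 :
        ∑ v ∈ regCent p x, χ.1 (x ^ j * v) = ∑ v ∈ regCent p x, χ.1 (x ^ j))]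
      simp only [Finset.sum_const, nsmul_eq_mul, ← Finset.mul_sum]
      ring
    · rw [if_neg hχ, Finset.sum_eq_zero fun j hj => sum_section_eq_zero h hpM hxP hx hj fun h' =>
        hχ (Finset.mem_filter.2 ⟨Finset.mem_univ _, h'⟩)]
      ring
  have hchar : ∑ i ∈ J, ∑ g ∈ L, ∑ k ∈ J,
      (if IsConj (x ^ i * g) (x ^ k) then (Nat.card C : ℂ) else 0) =
      ∑ χ : IrrCharacter G,
        conj (powSum p x χ) * powSum p x χ * (∑ g ∈ L, χ.1 g) / χ.1 1 := by
    rw [Finset.sum_congr rfl fun i _ => Finset.sum_congr rfl fun g _ =>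
      Finset.sum_congr rfl (g := fun k => ∑ χ : IrrCharacter G, χ.1 (x ^ i * g) * conj (χ.1 (x ^ k)))
        fun k hk => by
          rw [Char.sum_irr_mul_conj, card_centralizer_pow hx hk]
          split_ifs <;> rfl]
    rw [Finset.sum_congr rfl fun i _ => Finset.sum_congr rfl fun g _ => Finset.sum_comm,
      Finset.sum_congr rfl fun i _ => Finset.sum_comm, Finset.sum_comm]
    refine Finset.sum_congr rfl fun χ _ => ?_
    simp only [← Finset.mul_sum, ← Finset.sum_mul, hL, sum_low_shift]
    rw [powSum, map_sum]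
    ring
  rw [hchar] at hcount2
  apply mul_left_cancel₀ hG
  calc (Nat.card G : ℂ) * ∑ χ ∈ B, conj (powSum p x χ) * powSum p x χ * powSum p x χ / χ.1 1
      = ∑ χ : IrrCharacter G, conj (powSum p x χ) * powSum p x χ *
          (if χ ∈ B then (Nat.card G : ℂ) * powSum p x χ else 0) / χ.1 1 := by
        simp only [mul_ite, mul_zero, ite_div, zero_div, Finset.sum_ite_mem_eq, Finset.mul_sum]
        exact Finset.sum_congr rfl fun χ _ => by ring
    _ = ((m * Nat.card P : ℕ) : ℂ) * (((p - 1) * (p - 2) * Nat.card G : ℕ) : ℂ) := by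
        rw [hcount2, Finset.mul_sum]
        refine Finset.sum_congr rfl fun χ _ => ?_
        rw [← hLsum χ]
        ring
    _ = _ := by push_cast; ring

end Cfsg.Agent.CyclicSylow
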