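import Cfsg.Agent.Lib.CyclicSylow.PrincipalValues
import Cfsg.Agent.Lib.CharInt.Kazarin
import Cfsg.Agent.S1951

/-!
# No nonabelian simple group with cyclic Sylow subgroup has all pairs p-solvable

If the Sylow `p`-subgroups of a simple group are cyclic, non-trivial, and every two elements of
order `p` generate a p-solvable group, the group is abelian.
-/

set_option autoImplicit false
set_option linter.style.haveILetI false

namespace Cfsg.Agent.CyclicSylow

open Cfsg Cfsg.Agent Cfsg.Agent.Blocks Cfsg.Agent.DefectOne Cfsg.Agent.BlockCount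
open scoped Classical ComplexConjugate

universe u

variable {G : Type u} [Group G] [Fintype G] {p : ℕ} [hp : Fact p.Prime] {P : Sylow p G}

theorem freeData_of_isCyclic (hc : IsCyclic (P : Subgroup G)) : FreeData P := by
  haveI := hc
  have hcomm : IsMulCommutative (P : Subgroup G) := inferInstance
  refine ⟨hcomm, fun y hy hy1 => le_antisymm (fun g hg => ?_) ?_⟩
  · obtain ⟨hgy, hgN⟩ := Subgroup.mem_inf.1 hg
    obtain ⟨a, b, rfl, ha, hb, hap, hbp⟩ := exists_parts (p := p) g
    have haN := Subgroup.zpowers_le.2 hgN ha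
    have hbN := Subgroup.zpowers_le.2 hgN hb
    have hbC := Subgroup.zpowers_le.2 hgy hb
    refine mul_mem (Subgroup.mem_centralizer_iff.2 fun z hz => ?_)
      (commute_of_fix hc P.2 hbN hbp hy hy1 (Subgroup.mem_centralizer_singleton_iff.1 hbC))
    exact congrArg Subtype.val (hcomm.is_comm.comm (⟨z, hz⟩ : (P : Subgroup G))
      ⟨a, mem_sylow_of_mem_normalizer P haN hap⟩)
  · refine le_inf (fun g hg => Subgroup.mem_centralizer_singleton_iff.2 ?_)
      (Subgroup.centralizer_le_normalizer _)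
    exact (Subgroup.mem_centralizer_iff.1 hg y hy).symm

theorem not_hasNormalPComplement [IsSimpleGroup G] (hG : ¬ IsMulCommutative G)
    (hc : IsCyclic (P : Subgroup G)) (hdvd : p ∣ Nat.card G) : ¬ HasNormalPComplement p G := by
  intro h
  haveI := Transfer.pResidual_normal (G := G) p
  have hcomp := Transfer.isComplement'_pResidual P (Transfer.hasNormalPComplement_iff.1 h)
  rcases (Transfer.pResidual_normal (G := G) p).eq_bot_or_eq_top with hb | ht
  · rw [hb] at hcomp
    have htop : (P : Subgroup G) = ⊤ := Subgroup.isComplement'_bot_left.1 hcomp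
    haveI := hc
    refine hG ⟨⟨fun a b => ?_⟩⟩
    have := (IsMulCommutative.is_comm (M := (P : Subgroup G))).comm
      ⟨a, htop ▸ Subgroup.mem_top a⟩ ⟨b, htop ▸ Subgroup.mem_top b⟩
    exact congrArg Subtype.val this
  · have h1 := Transfer.hasNormalPComplement_iff.1 h
    rw [ht, Subgroup.card_top] at h1
    exact h1 hdvd

theorem false_of_simple [IsSimpleGroup G] (hG : ¬ IsMulCommutative G)
    (hc : IsCyclic (P : Subgroup G)) (hdvd : p ∣ Nat.card G)
    (hpairs : ∀ a b : G, orderOf a = p → orderOf b = p →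
      IsPSolvable p (Subgroup.closure ({a, b} : Set G))) : False := by
  have hfree := freeData_of_isCyclic hc
  have hp2 := hp.out.two_le
  set C := Subgroup.centralizer ((P : Subgroup G) : Set G) with hC
  set N := Subgroup.normalizer ((P : Subgroup G) : Set G) with hN
  obtain ⟨m, hm⟩ : ∃ m, C.relIndex N = m := ⟨_, rfl⟩
  obtain ⟨x, hx⟩ := exists_prime_orderOf_dvd_card' (G := (P : Subgroup G)) p (by
    obtain ⟨n, hn⟩ := P.2.exists_card_eq
    have hn0 : n ≠ 0 := fun h0 => P.not_dvd_index (by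
      rw [h0, pow_zero] at hn
      rw [← (P : Subgroup G).card_mul_index, hn, one_mul] at hdvd
      exact hdvd)
    exact hn ▸ dvd_pow_self p hn0)
  obtain ⟨x, hxP⟩ := x
  rw [Subgroup.orderOf_mk] at hx
  have hx1 : x ≠ 1 := fun h1 => by rw [h1, orderOf_one] at hx; omega
  have hm2 : 2 ≤ m := by
    by_contra hlt
    have hm0 : m ≠ 0 := hm ▸ Subgroup.index_ne_zero_of_finite
    refine not_hasNormalPComplement hG hc hdvd
      (Transfer.hasNormalPComplement_of_normalizer_le_centralizer P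
        (Subgroup.relIndex_eq_one.1 (show C.relIndex N = 1 by omega)))
  have h1j : (1 : ℕ) ∈ Finset.Ico 1 p := Finset.mem_Ico.2 ⟨le_rfl, hp.out.one_lt⟩
  have hcnt := card_conj_pow hfree hc hxP hx hm h1j
  have hmp : m ≤ p - 1 := by
    rw [← hcnt, ← Nat.card_Ico 1 p]
    exact Finset.card_filter_le _ _
  have hp3 : 3 ≤ p := by omega
  obtain ⟨n, hn⟩ := P.2.exists_card_eq
  set q := Nat.card P with hq
  have hn0 : n ≠ 0 := fun h0 => by
    have := ((dvd_of_eq hx.symm).trans (Subgroup.orderOf_dvd_natCard _ hxP) :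
      p ∣ Nat.card (P : Subgroup G)).trans hn.dvd
    rw [h0, pow_zero] at this
    have := Nat.le_of_dvd one_pos this
    omega
  have hpq : p ≤ q := hn ▸ Nat.le_self_pow hn0 p
  by_cases hr : m + 1 < q
  swap
  · -- every element of order p is conjugate to x
    have hqp : q = p := le_antisymm (by omega) hpq
    have hall : ∀ j ∈ Finset.Ico 1 p, IsConj x (x ^ j) := by
      intro j hj
      have hfull : (Finset.Ico 1 p).filter (fun k => IsConj (x ^ 1) (x ^ k)) = Finset.Ico 1 p := by
        refine Finset.eq_of_subset_of_card_le (Finset.filter_subset _ _) ?_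
        rw [hcnt, Nat.card_Ico]
        omega
      rw [← hfull] at hj
      simpa using (Finset.mem_filter.1 hj).2
    have hzp : Subgroup.zpowers x = (P : Subgroup G) :=
      Subgroup.eq_of_le_of_card_ge (Subgroup.zpowers_le.2 hxP)
        (by rw [Nat.card_zpowers, hx]; exact hqp.le)
    have hpow : ∀ y ∈ (P : Subgroup G), y ≠ 1 → IsConj x y := by
      intro y hy hy1
      rw [← hzp] at hy
      obtain ⟨k, hk, hky⟩ := (mem_zpowers_iff_mem_range_orderOf).1 hy |> Finset.mem_image.1
      rw [Finset.mem_range, hx] at hk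
      have hky' : x ^ k = y := hky
      refine hky' ▸ hall k (Finset.mem_Ico.2 ⟨Nat.one_le_iff_ne_zero.2 fun h0 => hy1 ?_, hk⟩)
      rw [← hky', h0, pow_zero]
    haveI : Fact p.Prime := hp
    have := S1951.result hG P (fun hb => hx1 (by rw [hb] at hxP; exact Subgroup.mem_bot.1 hxP))
      ⟨hfree.comm, fun a ha => orderOf_dvd_iff_pow_eq_one.1
        ((Subgroup.orderOf_dvd_natCard _ ha).trans (dvd_of_eq hqp))⟩
      (fun a ha b hb ha1 hb1 => isConj_iff.1 ((hpow a ha ha1).symm.trans (hpow b hb hb1)))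
      (fun a ha b hb ⟨g, hg⟩ => by
        obtain ⟨k, hk, he⟩ :=
          Transfer.controlsElementFusion_normalizer_of_isMulCommutative P hfree.comm a ha g
            (hg ▸ hb)
        exact ⟨k, hk, he.trans hg⟩)
      (fun a ha hord => hfree.hasNormalPComplement ha fun h1 => by
        rw [h1, orderOf_one] at hord; omega)
      hpairs
    omega
  obtain ⟨M, hM⟩ := CharInt.exists_isPModular_of_prime hp.out
  haveI := hM.2.1
  have hpM : (p : AlgInt) ∈ M := hM.2.2
  obtain ⟨S⟩ := hfree.shape hpM hm hr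
  set B := Finset.univ.filter (· ∈ principalBlock M G) with hB
  set one := Char.trivialChar G with hone
  have honeB : one ∈ B := Finset.mem_filter.2 ⟨Finset.mem_univ _, trivial_mem_principalBlock⟩
  have hbound := fun χ (hχ : χ ∈ B) =>
    exists_powSum_bound (n := n) hfree hc hxP hx hn hm hm2 hmp hr S (Finset.mem_filter.1 hχ).2
  choose! A hA hA1 hA2 using hbound
  have h2 := sum_powSum_sq hfree hc hpM hxP hx hm
  have h3 := sum_powSum_cube hfree hc hpM hxP hx hm hpairs
  rw [← hB, Finset.sum_congr rfl (g := fun χ => ((A χ ^ 2 : ℤ) : ℂ))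
    (fun χ hχ => by rw [hA χ hχ, map_intCast]; push_cast; ring)] at h2
  rw [← hB, Finset.sum_congr rfl (g := fun χ => (((A χ : ℚ) ^ 3 / Char.degree χ : ℚ) : ℂ))
    (fun χ hχ => by rw [hA χ hχ, map_intCast, Char.apply_one_eq_degree]; push_cast; ring)] at h3
  have hp1 : (((p - 1 : ℕ) : ℕ) : ℚ) = (p : ℚ) - 1 := by
    rw [Nat.cast_sub (by omega), Nat.cast_one]
  have hp2' : (((p - 2 : ℕ) : ℕ) : ℚ) = (p : ℚ) - 2 := by
    rw [Nat.cast_sub (by omega), Nat.cast_ofNat]
  have e2 : ∑ χ ∈ B, (A χ : ℚ) ^ 2 = ((p : ℚ) - 1) * m * q := by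
    rw [← hp1]
    apply Rat.cast_injective (α := ℂ)
    push_cast at h2 ⊢
    exact h2
  have e3 : ∑ χ ∈ B, (A χ : ℚ) ^ 3 / Char.degree χ = ((p : ℚ) - 1) * ((p : ℚ) - 2) * (m * q) := by
    rw [← hp1, ← hp2']
    apply Rat.cast_injective (α := ℂ)
    push_cast at h3 ⊢
    exact h3
  have hAone : (A one : ℚ) = (p : ℚ) - 1 := by rw [hA1 one honeB rfl]; push_cast; ring
  have hdone : (Char.degree one : ℚ) = 1 := by
    have : (Char.degree one : ℂ) = 1 := by
      rw [← Char.apply_one_eq_degree]; exact Char.trivialChar_apply 1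
    exact_mod_cast this
  rw [← Finset.add_sum_erase _ _ honeB, hAone] at e2
  rw [← Finset.add_sum_erase _ _ honeB, hAone, hdone] at e3
  have hmq : ((p : ℚ)) * 2 ≤ (m : ℚ) * q := by
    have : p * 2 ≤ m * q := by nlinarith
    exact_mod_cast this
  have hp3' : (3 : ℚ) ≤ p := by exact_mod_cast hp3
  have key : ∀ c : ℤ, 0 < c → (∀ χ ∈ B.erase one, c * A χ ≤ ((p : ℤ) - 1) * Char.degree χ) →
      (c : ℚ) * ∑ χ ∈ B.erase one, (A χ : ℚ) ^ 3 / Char.degree χ ≤
        ((p : ℚ) - 1) * ∑ χ ∈ B.erase one, (A χ : ℚ) ^ 2 := by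
    intro c _ hb
    rw [Finset.mul_sum, Finset.mul_sum]
    refine Finset.sum_le_sum fun χ hχ => ?_
    have hD : (0 : ℚ) < Char.degree χ := Nat.cast_pos.2 (Char.degree_pos χ)
    have h' : (c : ℚ) * A χ ≤ ((p : ℚ) - 1) * Char.degree χ := by exact_mod_cast hb χ hχ
    rw [mul_div_assoc', div_le_iff₀ hD]
    have := mul_le_mul_of_nonneg_left h' (sq_nonneg (A χ : ℚ))
    linarith
  rcases (by omega : n = 1 ∨ 2 ≤ n) with hn1 | hn2
  · have hp5 : (5 : ℚ) ≤ p := by
      have h5 : 4 ≤ p := by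
        by_contra hlt
        have hqp : q = p := by rw [hn, hn1, pow_one]
        omega
      have : p ≠ 4 := fun h4 => by rw [h4] at hp; exact absurd hp.out (by norm_num)
      exact_mod_cast (by omega : 5 ≤ p)
    have k := key 2 (by norm_num) fun χ hχ =>
      (hA2 χ (Finset.mem_erase.1 hχ).2 (Finset.mem_erase.1 hχ).1).1
    push_cast at k
    have h1 : ((p : ℚ) * 2) * ((p : ℚ) - 3) ≤ ((m : ℚ) * q) * ((p : ℚ) - 3) :=
      mul_le_mul_of_nonneg_right hmq (by linarith)
    have h2 : ((p : ℚ) - 1) ^ 2 < ((m : ℚ) * q) * ((p : ℚ) - 3) := by nlinarith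
    have h3 := mul_pos (show (0 : ℚ) < (p : ℚ) - 1 by linarith) (sub_pos.2 h2)
    rw [eq_sub_of_add_eq' e2, eq_sub_of_add_eq' e3] at k
    ring_nf at k h3
    linarith
  · have hqq : (p : ℚ) * p ≤ q := by
      have : p ^ 2 ≤ p ^ n := Nat.pow_le_pow_right (by omega) hn2
      rw [← hn, sq] at this
      exact_mod_cast this
    have hmq2 : (m : ℚ) * q ≥ 2 * ((p : ℚ) * p) := by
      have : (2 : ℚ) ≤ m := by exact_mod_cast hm2
      nlinarith
    have k := key 3 (by norm_num) fun χ hχ =>
      (hA2 χ (Finset.mem_erase.1 hχ).2 (Finset.mem_erase.1 hχ).1).2 hn2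
    push_cast at k
    have h1 : ((m : ℚ) * q) * 1 ≤ ((m : ℚ) * q) * (2 * p - 5) :=
      mul_le_mul_of_nonneg_left (by linarith) (by nlinarith)
    have h2 : 2 * ((p : ℚ) - 1) ^ 2 < ((m : ℚ) * q) * (2 * p - 5) := by nlinarith
    have h3 := mul_pos (show (0 : ℚ) < (p : ℚ) - 1 by linarith) (sub_pos.2 h2)
    rw [eq_sub_of_add_eq' e2, eq_sub_of_add_eq' e3] at k
    ring_nf at k h3
    linarith

end Cfsg.Agent.CyclicSylow
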