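import Cfsg.Agent.Lib.CyclicSylow.PairIdentity
import Cfsg.Agent.Lib.DefectOne.Shape

/-!
# The sum of a principal block character over the elements of order `p` of a cyclic Sylow subgroup

With `A χ = ∑_{0<j<p} χ (x ^ j)` every non-trivial member of the principal block satisfies
`2 A χ ≤ (p - 1) χ 1`, and `3 A χ ≤ (p - 1) χ 1` when the Sylow subgroup has order at least `p²`.
-/

set_option autoImplicit false
set_option linter.style.haveILetI false
set_option linter.unusedSectionVars false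

namespace Cfsg.Agent.CyclicSylow

open Cfsg Cfsg.Agent Cfsg.Agent.Blocks Cfsg.Agent.DefectOne Cfsg.Agent.BlockCount
open scoped Classical ComplexConjugate

universe u

variable {G : Type u} [Group G] [Fintype G] {p : ℕ} [hp : Fact p.Prime] {P : Sylow p G} {x : G}
  {M : Ideal AlgInt} [M.IsMaximal]

/-! ### Arithmetic -/

theorem two_mul_le_of_sq_le {a m : ℤ} (h : a ^ 2 ≤ m) (hm : 2 ≤ m) : 2 * a ≤ m ∧ -m ≤ 2 * a := by
  constructor <;> nlinarith

theorem const_bounds {b D P q : ℤ} (hP : 0 ≤ P) (hD : b + q ≤ D) :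
    (b ≤ q → 2 * (P * b) ≤ P * D) ∧ (2 * b ≤ q → 3 * (P * b) ≤ P * D) := by
  constructor <;> intro h
  · have := mul_le_mul_of_nonneg_left (show 2 * b ≤ D by linarith) hP
    linarith
  · have := mul_le_mul_of_nonneg_left (show 3 * b ≤ D by linarith) hP
    linarith

theorem one_le_quot {b D q M : ℤ} (hD : D = b + q * M) (hq : 0 < q) (h : b < D) : 1 ≤ M := by
  by_contra hM
  nlinarith

theorem quot_nonneg {b D q M : ℤ} (hD : D = b + q * M) (hq : 0 < q) (h : 1 ≤ D) (hb : b < q) :
    0 ≤ M := by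
  by_contra hM
  nlinarith

theorem add_le_of_one_le_quot {b D q M : ℤ} (hD : D = b + q * M) (hq : 0 < q) (hM : 1 ≤ M) :
    b + q ≤ D := by
  nlinarith

theorem quot_zero_bounds {d m P D δ : ℤ} (hδ : δ = 1 ∨ δ = -1) (hD : D = d + δ * m) (hD1 : 1 ≤ D)
    (hd : 2 * d ≤ m) (hP : 2 ≤ P) (hm : 0 ≤ m) :
    2 * (P * d - δ * m) ≤ P * D ∧ 3 * (P * d - δ * m) ≤ P * D := by
  have hδ1 : δ = 1 := by
    rcases hδ with rfl | rfl
    · rfl
    · exfalso; linarith
  subst hδ1
  have h1 := mul_le_mul_of_nonneg_left hd (show (0 : ℤ) ≤ P by linarith)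
  have h2 : 0 ≤ P * m := mul_nonneg (by linarith) hm
  subst hD
  constructor <;> linarith

theorem small_bound {d m p D δ : ℤ} (hδ : δ = 1 ∨ δ = -1) (hD : d + δ * m + p ≤ D)
    (hd : 2 * d ≤ m) (hm : 0 ≤ m) (hmp : 2 * m ≤ p - 1) :
    2 * ((p - 1) * d - δ * m) ≤ (p - 1) * D := by
  have hP : 0 ≤ p - 1 := by linarith
  have h1 := mul_le_mul_of_nonneg_left hd hP
  have h2 := mul_le_mul_of_nonneg_left hD hP
  rcases hδ with rfl | rfl <;> nlinarith

theorem large_bound {d m p q D δ : ℤ} (hδ : δ = 1 ∨ δ = -1) (hD : d + δ * m + q ≤ D)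
    (hd : 2 * d ≤ m) (hm : 0 ≤ m) (hmp : m ≤ p - 1) (hp : 3 ≤ p) (hq : p * p ≤ q) :
    3 * ((p - 1) * d - δ * m) ≤ (p - 1) * D := by
  have hP : 0 ≤ p - 1 := by linarith
  have h1 := mul_le_mul_of_nonneg_left hd hP
  have h2 := mul_le_mul_of_nonneg_left hD hP
  have h3 := mul_le_mul_of_nonneg_left hq hP
  have h4 := mul_le_mul_of_nonneg_right hmp (show (0 : ℤ) ≤ 2 * p + 1 by linarith)
  have h5 : 0 ≤ (p - 1) * (p * p - 2 * p - 1) := mul_nonneg hP (by nlinarith)
  rcases hδ with rfl | rfl <;> nlinarith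

theorem two_of_three {A D : ℤ} (h : 3 * A ≤ D) (hD : 0 ≤ D) : 2 * A ≤ D := by linarith

/-- The sum over `P` of a character is a multiple of the order of `P`. -/
theorem exists_sum_sylow (χ : IrrCharacter G) :
    ∃ k : ℕ, ∑ y : (P : Subgroup G), χ.1 y = (Nat.card P : ℂ) * k := by
  obtain ⟨n, hn⟩ := Char.IsCharacter.exists_nat_classInner
    (Char.IsCharacter.restrict (Char.irr_isCharacter χ) (P : Subgroup G))
    (Char.irr_isCharacter (Char.trivialChar (P : Subgroup G)))
  refine ⟨n, ?_⟩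
  rw [← hn, classInner, show (Char.trivialChar (P : Subgroup G)).1 = fun _ => (1 : ℂ) from rfl]
  simp

theorem int_le_degree (χ : IrrCharacter G) {g : G} {a : ℤ} (ha : χ.1 g = a) :
    a ≤ Char.degree χ := by
  have h1 := CharInt.norm_char_le (Char.irr_isCharacter χ) g
  rw [ha, Char.apply_one_eq_degree, Complex.norm_natCast, Complex.norm_intCast] at h1
  exact_mod_cast (le_abs_self ((a : ℤ) : ℝ)).trans h1

/-- The values of the non-trivial linear characters of `P` summed over the powers of `x`. -/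
theorem sum_pow_linear (h : FreeData P) (hxP : x ∈ (P : Subgroup G)) (hx : orderOf x = p)
    (μ : IrrCharacter (P : Subgroup G)) :
    ∑ j ∈ Finset.Ico 1 p, μ.1 ⟨x ^ j, pow_mem hxP j⟩ =
      if μ.1 ⟨x, hxP⟩ = 1 then ((p - 1 : ℕ) : ℂ) else -1 := by
  obtain ⟨lam, hlam⟩ := Char.IsCharacter.exists_monoidHom (Char.irr_isCharacter μ) (h.linear μ)
  have hj : ∀ j : ℕ, μ.1 ⟨x ^ j, pow_mem hxP j⟩ = lam ⟨x, hxP⟩ ^ j := fun j => by
    rw [← hlam, ← map_pow]; rfl
  simp only [hj, ← hlam]
  set ζ := lam ⟨x, hxP⟩ with hζ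
  have hζp : ζ ^ p = 1 := by
    rw [hζ, ← map_pow, ← map_one lam]
    exact congrArg lam (Subtype.ext (by simpa using pow_eq_one_of_orderOf hx))
  split_ifs with h1
  · simp [h1]
  · have h2 := geom_sum_mul ζ p
    rw [hζp, sub_self, mul_eq_zero, or_iff_left (sub_ne_zero.2 h1), Finset.range_eq_Ico,
      Finset.sum_eq_sum_Ico_succ_bot hp.out.pos, pow_zero] at h2
    linear_combination h2

theorem apply_one_iff_of_nConj (h : FreeData P) (hc : IsCyclic (P : Subgroup G))
    (hxP : x ∈ (P : Subgroup G)) (hx : orderOf x = p) {l μ : IrrCharacter (P : Subgroup G)}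
    (hlμ : NConj P μ l) : μ.1 ⟨x, hxP⟩ = 1 ↔ l.1 ⟨x, hxP⟩ = 1 := by
  have key : ∀ {a b : IrrCharacter (P : Subgroup G)}, NConj P a b → b.1 ⟨x, hxP⟩ = 1 →
      a.1 ⟨x, hxP⟩ = 1 := by
    intro a b hab hb
    obtain ⟨n, rfl⟩ := nConj_iff.1 hab
    rw [nChar_apply]
    obtain ⟨lam, hlam⟩ := Char.IsCharacter.exists_monoidHom (Char.irr_isCharacter b) (h.linear b)
    have hmem := mem_zpowers_of_pow_eq_one hc hx hxP
      (y := (n : G) * x * (n : G)⁻¹)
      (by rw [conj_pow, pow_eq_one_of_orderOf hx, mul_one, mul_inv_cancel])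
      ((nAct P n ⟨x, hxP⟩).2)
    obtain ⟨k, -, hk⟩ := (mem_zpowers_iff_mem_range_orderOf).1 hmem |> Finset.mem_image.1
    rw [show nAct P n ⟨x, hxP⟩ = (⟨x, hxP⟩ : (P : Subgroup G)) ^ k from Subtype.ext hk.symm,
      ← hlam, map_pow, show lam ⟨x, hxP⟩ = 1 by rw [← hb, ← hlam], one_pow]
  exact ⟨key (nConj_equivalence.symm hlμ), key hlμ⟩

/-- The estimate for members of the principal block. -/
theorem exists_powSum_bound [IsSimpleGroup G] (h : FreeData P) (hc : IsCyclic (P : Subgroup G))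
    (hxP : x ∈ (P : Subgroup G)) (hx : orderOf x = p) {m n : ℕ} (hn : Nat.card P = p ^ n)
    (hm : (Subgroup.centralizer ((P : Subgroup G) : Set G)).relIndex
      (Subgroup.normalizer ((P : Subgroup G) : Set G)) = m)
    (hm2 : 2 ≤ m) (hmp : m ≤ p - 1) (hr : m + 1 < Nat.card P) (S : Shape h M m)
    {χ : IrrCharacter G} (hχ : χ ∈ principalBlock M G) :
    ∃ A : ℤ, powSum p x χ = A ∧ (χ = Char.trivialChar G → A = (p : ℤ) - 1) ∧
      (χ ≠ Char.trivialChar G →
        2 * A ≤ ((p : ℤ) - 1) * Char.degree χ ∧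
        (2 ≤ n → 3 * A ≤ ((p : ℤ) - 1) * Char.degree χ)) := by
  have hp2 := hp.out.two_le
  have hx1 : x ≠ 1 := fun h1 => by rw [h1, orderOf_one] at hx; exact hp.out.ne_one hx.symm
  set q := Nat.card P with hq
  have hn0 : n ≠ 0 := fun h0 => by rw [h0, pow_zero] at hn; omega
  have hpq : p ≤ q := hn ▸ Nat.le_self_pow hn0 p
  have hmz : (m : ℤ) ≤ (p : ℤ) - 1 := by omega
  have hq2 : 2 ≤ n → (p : ℤ) * p ≤ q := fun h2 => by
    have : p ^ 2 ≤ p ^ n := Nat.pow_le_pow_right (by omega) h2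
    rw [hn, ← sq]
    exact_mod_cast this
  set E := (principalBlock M G).toFinset \ S.X with hE
  have hE2 : 2 ≤ E.card := by
    have := S.card_mul
    by_contra hlt
    rcases (by omega : E.card = 0 ∨ E.card = 1) with h0 | h0
    · rw [← hE, h0] at this; omega
    · rw [← hE, h0] at this; omega
  have htriv1 : S.a (Char.trivialChar G) = 1 := by
    have h1 := (S.X_val _ S.trivial_mem).2 ⟨x, hxP⟩ fun he => hx1 (congrArg Subtype.val he)
    rw [show (Char.trivialChar G).1 ((⟨x, hxP⟩ : (P : Subgroup G)) : G) = 1 from rfl] at h1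
    exact_mod_cast h1.symm
  have hnorm := S.norm_eq
  rw [← hE] at hnorm
  have hsum1 : (1 : ℤ) ≤ ∑ ψ ∈ S.X, S.a ψ ^ 2 := by
    have := Finset.single_le_sum (f := fun ψ => S.a ψ ^ 2) (fun _ _ => sq_nonneg _) S.trivial_mem
    simpa [htriv1] using this
  have hd2 : S.d ^ 2 ≤ (m : ℤ) := by
    have h1 : S.d ^ 2 ≤ ((E.card : ℤ) - 1) * S.d ^ 2 :=
      le_mul_of_one_le_left (sq_nonneg _) (by omega)
    linarith [sq_nonneg (S.d - S.δ)]
  have hd : 2 * S.d ≤ m ∧ -(m : ℤ) ≤ 2 * S.d := two_mul_le_of_sq_le hd2 (by omega)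
  obtain ⟨k0, hk0⟩ := exists_sum_sylow (P := P) χ
  rw [← hq] at hk0
  rw [← Finset.add_sum_erase _ _ (Finset.mem_univ (1 : (P : Subgroup G))), OneMemClass.coe_one,
    Char.apply_one_eq_degree] at hk0
  set D := Char.degree χ with hD
  have hD1 : 1 ≤ D := Char.degree_pos χ
  have hcardErase : ((Finset.univ.erase (1 : (P : Subgroup G))).card : ℂ) = (q : ℂ) - 1 := by
    rw [Finset.card_erase_of_mem (Finset.mem_univ _), Finset.card_univ, ← Nat.card_eq_fintype_card,
      Nat.cast_sub (by omega), Nat.cast_one, hq]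
  by_cases hX : χ ∈ S.X
  · set a := S.a χ with ha
    have hval := (S.X_val χ hX).2
    have hA : powSum p x χ = (((p : ℤ) - 1) * a : ℤ) := by
      rw [powSum, Finset.sum_congr rfl (g := fun _ => (a : ℂ)) (fun j hj =>
        hval ⟨x ^ j, pow_mem hxP j⟩ fun he => pow_ne_one_of_mem hx hj (congrArg Subtype.val he)),
        Finset.sum_const, Nat.card_Ico, nsmul_eq_mul, Nat.cast_sub hp.out.pos]
      push_cast; ring
    refine ⟨_, hA, fun he => by rw [ha, he, htriv1, mul_one], fun hne => ?_⟩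
    rw [Finset.sum_congr rfl (g := fun _ => (a : ℂ))
      (fun y hy => hval y (Finset.mem_erase.1 hy).1), Finset.sum_const, nsmul_eq_mul,
      hcardErase] at hk0
    have hk : ((D : ℤ) + ((q : ℤ) - 1) * a : ℤ) = (q : ℤ) * k0 := by
      apply Int.cast_injective (α := ℂ)
      push_cast
      linear_combination hk0
    have hax : χ.1 x = a := hval ⟨x, hxP⟩ fun he => hx1 (congrArg Subtype.val he)
    have hlt : a < D := lt_of_le_of_ne (int_le_degree χ hax) fun he => hne
      (eq_trivial_of_apply_eq χ hx1 (by rw [hax, Char.apply_one_eq_degree, ← hD, he, Int.cast_natCast]))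
    have ha2 : a ^ 2 ≤ (m : ℤ) := by
      have h1 : S.a (Char.trivialChar G) ^ 2 + S.a χ ^ 2 ≤ ∑ ψ ∈ S.X, S.a ψ ^ 2 := by
        rw [← Finset.sum_pair (f := fun ψ => S.a ψ ^ 2) (Ne.symm hne)]
        refine Finset.sum_le_sum_of_subset_of_nonneg ?_ fun _ _ _ => sq_nonneg _
        intro ψ hψ
        rcases Finset.mem_insert.1 hψ with rfl | hψ'
        · exact S.trivial_mem
        · rw [Finset.mem_singleton.1 hψ']; exact hX
      rw [htriv1, ← ha] at h1
      have h2 : 0 ≤ ((E.card : ℤ) - 1) * S.d ^ 2 := mul_nonneg (by omega) (sq_nonneg _)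
      linarith [sq_nonneg (S.d - S.δ)]
    have h2a := (two_mul_le_of_sq_le ha2 (by omega)).1
    have hDq : a + q ≤ D := add_le_of_one_le_quot (b := a) (D := (D : ℤ)) (q := (q : ℤ))
      (M := (k0 : ℤ) - a) (by linear_combination hk) (by omega)
      (one_le_quot (b := a) (D := (D : ℤ)) (q := (q : ℤ)) (by linear_combination hk) (by omega) hlt)
    obtain ⟨c2, c3⟩ := const_bounds (P := (p : ℤ) - 1) (by omega) hDq
    refine ⟨c2 (by omega), fun h2 => c3 ?_⟩
    have := hq2 h2
    have : (p : ℤ) * 2 ≤ p * p := by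
      apply mul_le_mul_of_nonneg_left <;> omega
    omega
  · obtain ⟨l, hl, hfl⟩ := S.f_surj χ hχ hX
    have hne : χ ≠ Char.trivialChar G := fun he => hX (he ▸ S.trivial_mem)
    have hval : ∀ y : (P : Subgroup G), y ≠ 1 → χ.1 y =
        S.d + S.δ * ∑ μ ∈ Finset.univ.filter (fun μ => NConj P μ l), μ.1 y :=
      fun y hy => hfl ▸ S.f_val l hl y hy
    set O := Finset.univ.filter (fun μ => NConj P μ l) with hO
    have hμne : ∀ μ ∈ O, μ ≠ Char.trivialChar _ := fun μ hμ he => by
      obtain ⟨n', hn'⟩ := nConj_iff.1 (Finset.mem_filter.1 hμ).2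
      exact hl (nChar_eq_trivial_iff.1 (hn'.trans he))
    have herase : ∑ y ∈ Finset.univ.erase (1 : (P : Subgroup G)), χ.1 y =
        ((q : ℂ) - 1) * S.d + S.δ * (-(O.card : ℂ)) := by
      rw [Finset.sum_congr rfl (fun y hy => hval y (Finset.mem_erase.1 hy).1),
        Finset.sum_add_distrib, Finset.sum_const, nsmul_eq_mul, hcardErase, ← Finset.mul_sum,
        Finset.sum_comm]
      congr 2
      rw [Finset.sum_congr rfl (g := fun _ => (-1 : ℂ)) fun μ hμ => ?_]
      · simp
      · have h1 := Char.sum_apply_eq_zero (hμne μ hμ)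
        rw [← Finset.add_sum_erase _ _ (Finset.mem_univ (1 : (P : Subgroup G))), h.linear] at h1
        linear_combination h1
    rw [herase] at hk0
    set e := O.card with he
    have hee : (e : ℤ) = m := by exact_mod_cast h.card_orbit hm hl
    set b := S.d + S.δ * e with hb
    have hD' : (D : ℤ) = b + (q : ℤ) * (k0 - S.d) := by
      apply Int.cast_injective (α := ℂ)
      rw [hb]
      push_cast
      linear_combination hk0
    have hδ : S.δ * e ≤ m ∧ -(m : ℤ) ≤ S.δ * e := by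
      rcases S.hδ with h1 | h1 <;> rw [h1] <;> constructor <;> omega
    have hA0 : powSum p x χ = ((p : ℂ) - 1) * S.d +
        S.δ * ∑ μ ∈ O, ∑ j ∈ Finset.Ico 1 p, μ.1 ⟨x ^ j, pow_mem hxP j⟩ := by
      rw [powSum, Finset.sum_congr rfl (fun j hj => hval ⟨x ^ j, pow_mem hxP j⟩
        fun he => pow_ne_one_of_mem hx hj (congrArg Subtype.val he)), Finset.sum_add_distrib,
        Finset.sum_const, Nat.card_Ico, nsmul_eq_mul, Nat.cast_sub hp.out.pos, Nat.cast_one,
        ← Finset.mul_sum, Finset.sum_comm]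
    by_cases hl1 : l.1 ⟨x, hxP⟩ = 1
    · have hA : powSum p x χ = (((p : ℤ) - 1) * b : ℤ) := by
        rw [hA0, Finset.sum_congr rfl (g := fun _ => ((p - 1 : ℕ) : ℂ)) (fun μ hμ => by
          rw [sum_pow_linear h hxP hx, if_pos ((apply_one_iff_of_nConj h hc hxP hx
            (Finset.mem_filter.1 hμ).2).2 hl1)]), Finset.sum_const, nsmul_eq_mul, hb,
          Nat.cast_sub hp.out.pos]
        push_cast; ring
      refine ⟨_, hA, fun h => absurd h hne, fun _ => ?_⟩
      have hbx : χ.1 x = b := by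
        rw [hval ⟨x, hxP⟩ fun he => hx1 (congrArg Subtype.val he),
          Finset.sum_congr rfl (g := fun _ => (1 : ℂ)) (fun μ hμ =>
            (apply_one_iff_of_nConj h hc hxP hx (Finset.mem_filter.1 hμ).2).2 hl1),
          Finset.sum_const, nsmul_eq_mul, hb]
        push_cast; ring
      have hlt : b < D := lt_of_le_of_ne (int_le_degree χ hbx) fun he => hne
        (eq_trivial_of_apply_eq χ hx1
          (by rw [hbx, Char.apply_one_eq_degree, ← hD, he, Int.cast_natCast]))
      have hn2 : 2 ≤ n := by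
        by_contra hlt2
        have hn1 : n = 1 := by omega
        refine hl (Subtype.ext (funext fun w => ?_))
        obtain ⟨lam, hlam⟩ := Char.IsCharacter.exists_monoidHom (Char.irr_isCharacter l) (h.linear l)
        have hzp : Subgroup.zpowers x = (P : Subgroup G) :=
          Subgroup.eq_of_le_of_card_ge (Subgroup.zpowers_le.2 hxP)
            (by rw [Nat.card_zpowers, hx]; exact le_of_eq (hn.trans (by rw [hn1, pow_one])))
        have hw : (w : G) ∈ Subgroup.zpowers x := hzp.symm ▸ w.2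
        obtain ⟨i, -, hi⟩ := (mem_zpowers_iff_mem_range_orderOf).1 hw |> Finset.mem_image.1
        rw [show w = (⟨x, hxP⟩ : (P : Subgroup G)) ^ i from Subtype.ext hi.symm, ← hlam, map_pow,
          show lam ⟨x, hxP⟩ = 1 by rw [← hl1, ← hlam], one_pow]
        rfl
      have hq' := hq2 hn2
      have hDq : b + q ≤ D :=
        add_le_of_one_le_quot hD' (by omega) (one_le_quot hD' (by omega) hlt)
      have h3 : 2 * b ≤ q := by
        have e1 : 2 * b ≤ 3 * m := by rw [hb]; linarith [hd.1, hδ.1]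
        have e2 : (p : ℤ) * 3 ≤ p * p := mul_le_mul_of_nonneg_left (by omega) (by omega)
        omega
      obtain ⟨c2, c3⟩ := const_bounds (P := (p : ℤ) - 1) (by omega) hDq
      exact ⟨c2 (by omega), fun _ => c3 h3⟩
    · have hA : powSum p x χ = (((p : ℤ) - 1) * S.d - S.δ * e : ℤ) := by
        rw [hA0, Finset.sum_congr rfl (g := fun _ => (-1 : ℂ)) (fun μ hμ => by
          rw [sum_pow_linear h hxP hx, if_neg fun h1 => hl1 ((apply_one_iff_of_nConj h hc hxP hx
            (Finset.mem_filter.1 hμ).2).1 h1)]), Finset.sum_const, nsmul_eq_mul]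
        push_cast; ring
      refine ⟨_, hA, fun h => absurd h hne, fun _ => ?_⟩
      -- when `|P| = p` there are at least two orbits
      have hq1 : n = 1 → 2 * (m : ℤ) ≤ p - 1 ∧ (q : ℤ) = p := fun h1 => by
        have hqp : q = p := by rw [hn, h1, pow_one]
        have h5 := S.card_mul
        rw [← hE, ← hq, hqp] at h5
        have : 2 * m ≤ E.card * m := Nat.mul_le_mul_right m hE2
        exact ⟨by omega, by exact_mod_cast hqp⟩
      have hbq : 2 * b ≤ 3 * m ∧ -(3 * (m : ℤ)) ≤ 2 * b := by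
        rw [hb]; constructor <;> linarith [hd.1, hd.2, hδ.1, hδ.2]
      have hp3 : (3 : ℤ) ≤ p := by omega
      have hqbig : 3 * (m : ℤ) < 2 * q := by
        rcases (by omega : n = 1 ∨ 2 ≤ n) with h1 | h1
        · linarith [(hq1 h1).1, (hq1 h1).2]
        · have e2 : (p : ℤ) * 3 ≤ p * p := mul_le_mul_of_nonneg_left hp3 (by omega)
          linarith [hq2 h1]
      have hMnn : 0 ≤ (k0 : ℤ) - S.d :=
        quot_nonneg hD' (by omega) (by exact_mod_cast hD1) (by omega)
      rw [hee]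
      rw [hee] at hb
      rcases eq_or_lt_of_le hMnn with h0 | hpos
      · rw [← h0, mul_zero, add_zero, hb] at hD'
        obtain ⟨c2, c3⟩ := quot_zero_bounds (P := (p : ℤ) - 1) S.hδ hD' (by exact_mod_cast hD1)
          hd.1 (by omega) (by omega)
        exact ⟨c2, fun _ => c3⟩
      · have hDq : b + q ≤ D := add_le_of_one_le_quot hD' (by omega) (by omega)
        rw [hb] at hDq
        rcases (by omega : n = 1 ∨ 2 ≤ n) with h1 | h1
        · refine ⟨?_, fun h2 => absurd h2 (by omega)⟩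
          obtain ⟨e1, e2⟩ := hq1 h1
          rw [e2] at hDq
          exact small_bound S.hδ hDq hd.1 (by omega) e1
        · have key := large_bound S.hδ hDq hd.1 (by omega) hmz hp3 (hq2 h1)
          exact ⟨two_of_three key (mul_nonneg (by omega) (Int.natCast_nonneg D)), fun _ => key⟩

end Cfsg.Agent.CyclicSylow
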