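import Cfsg.Agent.Lib.CyclicSylow.Basic

/-!
# The configuration left by induction: a simple group

`Setup p P z B`: simple group without normal `p`-complement, `P` cyclic Sylow with complement `B`
in its normaliser, `z ∈ P` of order `p`, and the inductive information on proper subgroups.
-/

set_option autoImplicit false

namespace Cfsg.Agent.CyclicSylow

open Subgroup

variable {G : Type*} [Group G] [Finite G] {p : ℕ} [Fact p.Prime]

/-- Inductive information on a subgroup: normal `p`-complement, or a normal subgroup containing all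
`p`-elements. -/
def Dich (p : ℕ) (H : Subgroup G) : Prop :=
  Cfsg.HasNormalPComplement p H ∨ ∃ S : Subgroup G, S ≤ H ∧ IsPGroup p S ∧
    H ≤ normalizer (S : Set G) ∧ ∀ x ∈ H, IsPGroup p (zpowers x) → x ∈ S

/-- The configuration left by induction. -/
structure Setup (p : ℕ) (P : Sylow p G) (z : G) (B : Subgroup G) : Prop where
  simple : IsSimpleGroup G
  npc : ¬ Cfsg.HasNormalPComplement p G
  ab : AbPrime p G
  cyc : CycSyl p G
  dich : ∀ H : Subgroup G, H ≠ ⊤ → Dich p H
  hz : orderOf z = p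
  hzP : z ∈ (P : Subgroup G)
  conjz : ∀ g : G, g * z * g⁻¹ ∈ (P : Subgroup G) →
    g ∈ normalizer ((P : Subgroup G) : Set G)
  hBN : B ≤ normalizer ((P : Subgroup G) : Set G)
  hBp : ¬ p ∣ Nat.card B
  decomp : ∀ x ∈ normalizer ((P : Subgroup G) : Set G),
    ∃ a ∈ (P : Subgroup G), ∃ v ∈ B, x = a * v

namespace Setup

variable {P : Sylow p G} {z : G} {B : Subgroup G}

omit [Finite G] in
theorem z_ne_one (h : Setup p P z B) : z ≠ 1 := fun e =>
  (Fact.out : p.Prime).ne_one (by rw [← h.hz, e, orderOf_one])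

omit [Finite G] [Fact p.Prime] in
theorem bComm (h : Setup p P z B) {u v : G} (hu : u ∈ B) (hv : v ∈ B) : Commute u v :=
  h.ab.comm h.hBp hu hv

omit [Finite G] [Fact p.Prime] in
theorem pComm (h : Setup p P z B) {u v : G} (hu : u ∈ (P : Subgroup G)) (hv : v ∈ (P : Subgroup G)) :
    Commute u v := by
  haveI := h.cyc _ P.2
  exact congrArg Subtype.val (IsMulCommutative.is_comm.comm (⟨u, hu⟩ : P) ⟨v, hv⟩)

omit [Finite G] [Fact p.Prime] in
theorem le_centralizer (h : Setup p P z B) :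
    (P : Subgroup G) ≤ centralizer ((P : Subgroup G) : Set G) := fun _ hx =>
  mem_centralizer_iff.2 fun _ hy => h.pComm hy hx

omit [Finite G] in
theorem inter (h : Setup p P z B) {x : G} (hxP : x ∈ (P : Subgroup G)) (hxB : x ∈ B) : x = 1 :=
  eq_one_of_mem_not_dvd h.hBp hxB P.2 hxP

omit [Finite G] in
theorem decomp_unique (h : Setup p P z B) {a a' v v' : G} (ha : a ∈ (P : Subgroup G))
    (ha' : a' ∈ (P : Subgroup G)) (hv : v ∈ B) (hv' : v' ∈ B) (e : a * v = a' * v') :
    a = a' ∧ v = v' := by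
  have e1 : a'⁻¹ * a = v' * v⁻¹ := by
    rw [eq_mul_inv_iff_mul_eq, mul_assoc, e, inv_mul_cancel_left]
  have e2 := h.inter (mul_mem (inv_mem ha') ha) (e1 ▸ mul_mem hv' (inv_mem hv))
  rw [inv_mul_eq_one] at e2
  subst e2
  exact ⟨rfl, mul_left_cancel e⟩

theorem fix (h : Setup p P z B) {v w : G} (hv : v ∈ B) (hw : w ∈ (P : Subgroup G)) (hw1 : w ≠ 1)
    (hvw : Commute v w) : v ∈ centralizer ((P : Subgroup G) : Set G) :=
  commute_of_fix (h.cyc _ P.2) P.2 (h.hBN hv) (not_dvd_orderOf_of_mem h.hBp hv) hw hw1 hvw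

omit [Finite G] in
theorem card_normalizer (h : Setup p P z B) :
    Nat.card (normalizer ((P : Subgroup G) : Set G)) = Nat.card P * Nat.card B := by
  rw [← Nat.card_prod]
  symm
  refine Nat.card_congr (Equiv.ofBijective
    (fun w : ↥(P : Subgroup G) × B =>
      (⟨w.1.1 * w.2.1, mul_mem (le_normalizer w.1.2) (h.hBN w.2.2)⟩ :
        normalizer ((P : Subgroup G) : Set G))) ⟨?_, ?_⟩)
  · rintro ⟨a, v⟩ ⟨a', v'⟩ e
    obtain ⟨e1, e2⟩ := h.decomp_unique a.2 a'.2 v.2 v'.2 (congrArg Subtype.val e)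
    exact Prod.ext (Subtype.ext e1) (Subtype.ext e2)
  · rintro ⟨x, hx⟩
    obtain ⟨a, ha, v, hv, rfl⟩ := h.decomp x hx
    exact ⟨(⟨a, ha⟩, ⟨v, hv⟩), rfl⟩

theorem exists_nonfix (h : Setup p P z B) :
    ∃ b ∈ B, b ∉ centralizer ((P : Subgroup G) : Set G) := by
  by_contra hcon
  push Not at hcon
  refine h.npc (Transfer.hasNormalPComplement_of_normalizer_le_centralizer P fun x hx => ?_)
  obtain ⟨a, ha, v, hv, rfl⟩ := h.decomp x hx
  exact mul_mem (h.le_centralizer ha) (hcon v hv)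

/-- Conjugates of `P` meet trivially. -/
theorem tiP (h : Setup p P z B) {g x : G} (hx : x ∈ (P : Subgroup G)) (hx1 : x ≠ 1)
    (hgx : g * x * g⁻¹ ∈ (P : Subgroup G)) : g ∈ normalizer ((P : Subgroup G) : Set G) := by
  have hp : p.Prime := Fact.out
  apply h.conjz
  have hpx : p ∣ orderOf x := by
    by_contra hd
    exact hx1 (eq_one_of_not_dvd_orderOf P.2 hx hd)
  obtain ⟨w, hw⟩ := hpx
  have hwo : orderOf (x ^ w) = p := by
    have hw0 : 0 < w := by
      rcases Nat.eq_zero_or_pos w with rfl | hh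
      · exact absurd (by rw [hw, mul_zero]) (orderOf_pos x).ne'
      · exact hh
    rw [orderOf_pow, hw, Nat.gcd_eq_right (dvd_mul_left w p), Nat.mul_div_cancel _ hw0]
  have hzx : z ∈ zpowers (x ^ w) :=
    mem_zpowers_of_pow_eq_one (h.cyc _ P.2) hwo (pow_mem hx w)
      (by rw [← h.hz, pow_orderOf_eq_one]) h.hzP
  obtain ⟨i, hi⟩ := mem_zpowers_iff.1 hzx
  rw [← hi, ← conj_zpow, ← conj_pow]
  exact zpow_mem (pow_mem hgx w) i

theorem p_ne_two (h : Setup p P z B) : p ≠ 2 := by
  intro e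
  obtain ⟨b, hb, hbC⟩ := h.exists_nonfix
  refine hbC (h.fix hb h.hzP h.z_ne_one ?_)
  have h1 : b * z * b⁻¹ ∈ (P : Subgroup G) := (mem_normalizer_iff.1 (h.hBN hb) z).1 h.hzP
  have h2 : (b * z * b⁻¹) ^ p = 1 := by
    rw [conj_pow, ← h.hz, pow_orderOf_eq_one]; group
  obtain ⟨i, hi⟩ := mem_zpowers_iff.1 (mem_zpowers_of_pow_eq_one (h.cyc _ P.2) h.hz h.hzP h2 h1)
  have hne : b * z * b⁻¹ ≠ 1 := by rw [Ne, conj_eq_one_iff]; exact h.z_ne_one
  rcases Int.emod_two_eq_zero_or_one i with hh | hh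
  · refine absurd ?_ hne
    rw [← hi, ← orderOf_dvd_iff_zpow_eq_one, h.hz, e]
    exact Int.dvd_of_emod_eq_zero hh
  · have : z ^ i = z := by
      rw [← zpow_mod_orderOf z i, h.hz, e]
      norm_num [hh]
    rw [this] at hi
    exact mul_inv_eq_iff_eq_mul.1 hi.symm

theorem center_eq_bot (h : Setup p P z B) : center G = ⊥ := by
  haveI := h.simple
  refine (IsSimpleGroup.eq_bot_or_eq_top_of_normal (center G) inferInstance).resolve_right fun e => ?_
  obtain ⟨b, hb, hbC⟩ := h.exists_nonfix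
  refine hbC (h.fix hb h.hzP h.z_ne_one ?_)
  have : z ∈ center G := e ▸ mem_top z
  exact mem_center_iff.1 this b

theorem centralizer_singleton_ne_top (h : Setup p P z B) {x : G} (hx : x ≠ 1) :
    centralizer ({x} : Set G) ≠ ⊤ := by
  intro e
  refine hx ?_
  rw [← mem_bot, ← h.center_eq_bot, mem_center_iff]
  intro g
  exact mem_centralizer_singleton_iff.1 (e ▸ mem_top g)

/-- Subgroups with a normal `p`-complement cannot contain `P` and all of `B`. -/
theorem not_npc (h : Setup p P z B) {H : Subgroup G} (hP : (P : Subgroup G) ≤ H) (hB : B ≤ H) :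
    ¬ Cfsg.HasNormalPComplement p H := by
  intro hn
  obtain ⟨b, hb, hbC⟩ := h.exists_nonfix
  exact hbC (mem_centralizer_of_complement hn P.2 hP (hB hb) (h.hBN hb)
    (not_dvd_orderOf_of_mem h.hBp hb))

/-- Proper subgroups containing `P` and `B` normalise `P`. -/
theorem le_normalizer_of (h : Setup p P z B) {H : Subgroup G} (hH : H ≠ ⊤)
    (hP : (P : Subgroup G) ≤ H) (hB : B ≤ H) : H ≤ normalizer ((P : Subgroup G) : Set G) := by
  obtain hn | ⟨S, hSH, hS, hN, hall⟩ := h.dich H hH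
  · exact absurd hn (h.not_npc hP hB)
  · have hPS : (P : Subgroup G) ≤ S := fun x hx => hall x (hP hx) (P.2.to_le (zpowers_le.2 hx))
    have e : S = P := P.3 hS hPS
    rw [e] at hN
    exact hN

/-- A `p'`-element of `N(P)` centralising `P` lies in `B`. -/
theorem mem_B (h : Setup p P z B) {w : G} (hwN : w ∈ normalizer ((P : Subgroup G) : Set G))
    (hwp : ¬ p ∣ orderOf w) (hwC : w ∈ centralizer ((P : Subgroup G) : Set G)) : w ∈ B := by
  obtain ⟨a, ha, v, hv, rfl⟩ := h.decomp w hwN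
  have hvC : v ∈ centralizer ((P : Subgroup G) : Set G) :=
    ((centralizer ((P : Subgroup G) : Set G)).mul_mem_cancel_left (h.le_centralizer ha)).1 hwC
  have hc : Commute a v := mem_centralizer_iff.1 hvC a ha
  have h1 : a ^ orderOf (a * v) * v ^ orderOf (a * v) = 1 := by
    rw [← hc.mul_pow, pow_orderOf_eq_one]
  have h2 := h.inter (pow_mem ha _)
    ((eq_inv_of_mul_eq_one_left h1) ▸ inv_mem (pow_mem hv (orderOf (a * v))))
  have ha1 : a = 1 := by
    refine eq_one_of_not_dvd_orderOf P.2 ha fun hd => hwp ?_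
    exact hd.trans (orderOf_dvd_of_pow_eq_one h2)
  rwa [ha1, one_mul]

/-- Lemma L: centralisers of nontrivial `p'`-elements of `C(P) ∩ N(P)` lie in `N(P)`. -/
theorem centralizer_le (h : Setup p P z B) {w : G} (hwB : w ∈ B) (hw1 : w ≠ 1)
    (hwC : w ∈ centralizer ((P : Subgroup G) : Set G)) :
    centralizer ({w} : Set G) ≤ normalizer ((P : Subgroup G) : Set G) :=
  h.le_normalizer_of (h.centralizer_singleton_ne_top hw1)
    (fun _ hx => mem_centralizer_singleton_iff.2 (mem_centralizer_iff.1 hwC _ hx))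
    (fun _ hx => mem_centralizer_singleton_iff.2 (h.bComm hx hwB))

end Setup

end Cfsg.Agent.CyclicSylow
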